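import Cfsg.Agent.Lib.Linear.Aschbacher.Basic
import Cfsg.Agent.Lib.Linear.ExtraTwo.Basic

/-!
# Groups of symplectic type with centre of order four

What the class-six data in four dimensions give: all fourth roots of unity are scalars of the
group, squares and commutators are signs, and the group spans the matrix algebra.
-/

set_option autoImplicit false

namespace Cfsg.Lib.Linear.Klein

open Cfsg.Geo
open scoped Matrix

variable {ι : Type} [Fintype ι] [DecidableEq ι] {F : Type*} [Field F]

/-- What is used of the group. -/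
structure Data (R : Subgroup (GL ι F)) : Prop where
  two : (2 : F) ≠ 0
  sqrtNeg : ∃ i : F, i * i = -1
  roots : ∀ c : F, c ^ 4 = 1 → ∃ r ∈ R, (r : Matrix ι ι F) = c • 1
  sq : ∀ x ∈ R, x * x = 1 ∨ x * x = -1
  comm : ∀ x ∈ R, ∀ y ∈ R, x * y = y * x ∨ x * y = -(y * x)
  irr : ActsAbsolutelyIrreducibly (matrixSet R)
  span : Submodule.span F (matrixSet R) = ⊤

theorem Data.of_facts [Fintype F] (hι : Fintype.card ι = 4) {R : Subgroup (GL ι F)}
    (h2 : (2 : F) ≠ 0) (hs : IsSymplecticTypeGroup 2 R)
    (habs : ActsAbsolutelyIrreducibly (matrixSet R)) (hZ4 : Nat.card (Subgroup.center R) = 4) :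
    Data R := by
  classical
  haveI : Nonempty ι := Fintype.card_pos_iff.1 (by omega)
  obtain ⟨i0⟩ := ‹Nonempty ι›
  have hspan : Submodule.span F (matrixSet R) = ⊤ := Asch.span_eq_top habs
  have hexp : Monoid.exponent R = 4 := by rw [hs.exponent_eq]; rfl
  have hirr : ∀ M : Matrix ι ι F, (∀ x ∈ R, Commute M (x : Matrix ι ι F)) → ∃ c : F, M = c • 1 :=
    fun M hM => habs.2 M (by rintro _ ⟨g, hg, rfl⟩; exact (hM g hg).eq)
  have hscal : ∀ z : R, z ∈ Subgroup.center R →
      ∃ l : F, ((z : GL ι F) : Matrix ι ι F) = l • 1 := fun z hz =>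
    hirr _ fun x hx => congrArg (fun w : R => ((w : GL ι F) : Matrix ι ι F))
      (Subgroup.mem_center_iff.1 hz ⟨x, hx⟩).symm
  have hna : ¬ IsMulCommutative R := by
    intro hc
    have hle : Submodule.span F (matrixSet R) ≤ F ∙ (1 : Matrix ι ι F) := by
      rw [Submodule.span_le]
      rintro _ ⟨x, hx, rfl⟩
      obtain ⟨l, hl⟩ := hscal ⟨x, hx⟩ (Subgroup.mem_center_iff.2 fun b => hc.is_comm.comm b _)
      exact Submodule.mem_span_singleton.2 ⟨l, hl.symm⟩
    obtain ⟨j, hj⟩ := Fintype.exists_ne_of_one_lt_card (by omega : 1 < Fintype.card ι) i0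
    obtain ⟨l, hl⟩ := Submodule.mem_span_singleton.1
      (hle (hspan.ge (Submodule.mem_top (x := Matrix.single i0 j (1 : F)))))
    have := congrFun (congrFun hl i0) j
    simp [Ne.symm hj] at this
  obtain ⟨hsq, hcm⟩ := ExtraTwo.structure_four hs.pGroup hs.cyclic_of_characteristic hexp hna
  have hpm : ∀ z : R, z ∈ Subgroup.center R → z * z = 1 → (z : GL ι F) = 1 ∨ (z : GL ι F) = -1 :=
    fun z hz' hzz => by
      obtain ⟨l, hl⟩ := hscal z hz'
      exact ExtraTwo.units_sq_one hl (congrArg Subtype.val hzz)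
  -- the centre consists of all fourth roots of unity
  choose f hf using fun z : Subgroup.center R => hscal z.1 z.2
  have hf4 : ∀ z, f z ^ 4 = 1 := fun z => by
    have h4 : ((z.1 : GL ι F) : Matrix ι ι F) ^ 4 = 1 := by
      rw [← Units.val_pow_eq_pow_val, ← Subgroup.coe_pow, ExtraTwo.pow_four_exp hexp z.1]
      rfl
    rw [hf z, smul_pow, one_pow] at h4
    simpa using congrFun (congrFun h4 i0) i0
  have hinj : Function.Injective f := fun a b hab =>
    Subtype.ext (Subtype.ext (Units.ext (by rw [hf a, hf b, hab])))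
  haveI := Fintype.ofFinite (Subgroup.center R)
  have himg : (Finset.univ.image f) = Polynomial.nthRootsFinset 4 (1 : F) := by
    refine Finset.eq_of_subset_of_card_le (fun c hc => ?_) ?_
    · obtain ⟨z, -, rfl⟩ := Finset.mem_image.1 hc
      rw [Polynomial.mem_nthRootsFinset (by norm_num)]
      exact hf4 z
    · rw [Finset.card_image_of_injective _ hinj, Finset.card_univ, ← Nat.card_eq_fintype_card, hZ4]
      classical
      rw [Polynomial.nthRootsFinset_def]
      exact (Multiset.toFinset_card_le _).trans (Polynomial.card_nthRoots _ _)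
  have hroots : ∀ c : F, c ^ 4 = 1 → ∃ z, f z = c := fun c hc => by
    have h := himg.ge ((Polynomial.mem_nthRootsFinset (by norm_num) _).2 hc)
    obtain ⟨z, -, hz⟩ := Finset.mem_image.1 h
    exact ⟨z, hz⟩
  refine ⟨h2, ?_, fun c hc => ?_, fun x hx => ?_, fun x hx y hy => ?_, habs, hspan⟩
  · by_contra hno
    push Not at hno
    have hsub : Finset.univ.image f ⊆ {1, -1} := fun c hc => by
      obtain ⟨z, -, rfl⟩ := Finset.mem_image.1 hc
      have h4 := hf4 z
      have h22 : (f z * f z - 1) * (f z * f z + 1) = 0 := by linear_combination h4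
      rcases mul_eq_zero.1 h22 with h | h
      · rcases mul_self_eq_one_iff.1 (sub_eq_zero.1 h) with h | h <;> simp [h]
      · exact absurd (eq_neg_of_add_eq_zero_left h) (hno _)
    have := (Finset.card_le_card hsub).trans Finset.card_le_two
    rw [Finset.card_image_of_injective _ hinj, Finset.card_univ, ← Nat.card_eq_fintype_card,
      hZ4] at this
    omega
  · obtain ⟨z, rfl⟩ := hroots c hc
    exact ⟨_, z.1.2, hf z⟩
  · refine hpm (⟨x, hx⟩ * ⟨x, hx⟩) (hsq _) ?_
    have := ExtraTwo.pow_four_exp hexp (⟨x, hx⟩ : R)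
    rw [pow_succ, pow_succ, pow_succ, pow_one] at this
    rw [← mul_assoc]; exact this
  · obtain ⟨h1, h1'⟩ := hcm ⟨x, hx⟩ ⟨y, hy⟩
    rcases hpm _ h1 h1' with h | h
    · left
      have h' : x * y * x⁻¹ * y⁻¹ = 1 := h
      rwa [mul_inv_eq_one, mul_inv_eq_iff_eq_mul] at h'
    · right
      have h' : x * y * x⁻¹ * y⁻¹ = -1 := h
      rw [mul_inv_eq_iff_eq_mul, mul_inv_eq_iff_eq_mul] at h'
      rw [h', neg_mul, one_mul, neg_mul]

theorem Data.of_linearData [Fintype F] (hι : Fintype.card ι = 4) {R : Subgroup (GL ι F)}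
    (hR : IsLinearSymplecticTypeData 2 R) : Data R := by
  obtain ⟨p, e, hne, ⟨hpp, hchar, -, -, -⟩, h⟩ := hR.field
  have hZ4 : Nat.card (Subgroup.center R) = 4 := by
    rcases h with ⟨h, -⟩ | ⟨-, -, h, -⟩ | ⟨-, -, h, -⟩
    · exact absurd h (by decide)
    · exact h
    · omega
  have h2 : (2 : F) ≠ 0 := fun e2 => hne ((Nat.prime_dvd_prime_iff_eq hpp Nat.prime_two).1
    ((CharP.cast_eq_zero_iff F p 2).1 (by exact_mod_cast e2))).symm
  exact Data.of_facts hι h2 hR.symplecticType hR.absIrred hZ4

namespace Data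

variable {R : Subgroup (GL ι F)}

theorem neg_mem (h : Data R) : (-1 : GL ι F) ∈ R := by
  obtain ⟨r, hr, e⟩ := h.roots (-1) (by ring)
  rwa [show r = -1 from Units.ext (by rw [e, Units.val_neg, Units.val_one, neg_one_smul])] at hr

/-- A non-zero matrix commuting up to sign with every element is a multiple of one of them. -/
theorem eq_smul_of_sign (h : Data R) {M : Matrix ι ι F} (hM : M ≠ 0)
    (hs : ∀ x ∈ R, (x : Matrix ι ι F) * M = M * x ∨ (x : Matrix ι ι F) * M = -(M * x)) :
    ∃ c : F, ∃ r ∈ R, M = c • (r : Matrix ι ι F) := by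
  obtain ⟨r, hr, htr⟩ : ∃ r ∈ R, (M * (r : Matrix ι ι F)).trace ≠ 0 := by
    by_contra hne
    push Not at hne
    apply hM
    have key : ∀ N : Matrix ι ι F, (M * N).trace = 0 := by
      intro N
      refine Submodule.span_induction (p := fun N _ => (M * N).trace = 0) ?_ (by simp) ?_ ?_
        (h.span.ge (Submodule.mem_top (x := N)))
      · rintro _ ⟨x, hx, rfl⟩; exact hne x hx
      · intro a b _ _ ha hb
        rw [Matrix.mul_add, Matrix.trace_add, ha, hb, add_zero]
      · intro c a _ ha
        rw [Matrix.mul_smul, Matrix.trace_smul, ha, smul_zero]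
    ext i j
    have hij := key (Matrix.single j i 1)
    simpa [Matrix.trace_mul_single] using hij
  have hc : ∀ x ∈ R, Commute (M * (r : Matrix ι ι F)) (x : Matrix ι ι F) := by
    intro x hx
    have hxr : (x : Matrix ι ι F) * r = r * x ∨ (x : Matrix ι ι F) * r = -(r * x) := by
      rcases h.comm x hx r hr with e | e
      · exact Or.inl (congrArg Units.val e)
      · exact Or.inr (congrArg Units.val e)
    have hor : (x : Matrix ι ι F) * (M * r) = M * r * x ∨
        (x : Matrix ι ι F) * (M * r) = -(M * r * x) := by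
      rcases hs x hx with e | e <;> rcases hxr with e' | e' <;>
        simp only [← Matrix.mul_assoc, e, Matrix.neg_mul] <;>
        simp [Matrix.mul_assoc, e']
    rcases hor with e | e
    · exact e.symm
    exfalso
    apply htr
    have h1 : ((x : Matrix ι ι F) * (M * r) * ((x⁻¹ : GL ι F) : Matrix ι ι F)).trace =
        (M * (r : Matrix ι ι F)).trace := Matrix.trace_units_conj x _
    rw [e, Matrix.neg_mul, Matrix.trace_neg, Matrix.mul_assoc (M * _), Units.mul_inv,
      Matrix.mul_one] at h1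
    exact (mul_eq_zero.1 (show 2 * (M * (r : Matrix ι ι F)).trace = 0 by
      linear_combination -h1)).resolve_left h.two
  obtain ⟨c, hc'⟩ := h.irr.2 _ (by rintro _ ⟨g, hg, rfl⟩; exact (hc g hg).eq)
  refine ⟨c, r⁻¹, R.inv_mem hr, ?_⟩
  calc M = M * r * ((r⁻¹ : GL ι F) : Matrix ι ι F) := by
        rw [Matrix.mul_assoc, Units.mul_inv, Matrix.mul_one]
    _ = _ := by rw [hc', Matrix.smul_mul, Matrix.one_mul]

end Data

end Cfsg.Lib.Linear.Klein
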