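import Cfsg.Agent.Lib.Linear.Klein.Data
import Cfsg.Agent.Lib.Linear.OrthSmallIso
import Cfsg.Agent.Lib.Linear.OrthOrderStd
import Cfsg.Agent.S0302

/-!
# Class six in `SL₄` is a frame stabiliser in `Ω⁺₆`

A group of symplectic type in four dimensions acts on the six-dimensional space of alternating
matrices as signs on an orthogonal frame of isometric lines. Its normaliser in `SL₄` is the
inverse image of the stabiliser of the frame in `Ω⁺₆`.
-/

set_option autoImplicit false
set_option linter.unusedSectionVars false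

namespace Cfsg.Lib.Linear.Klein

open scoped Matrix
open Module Cfsg.Geo
open Cfsg.Agent.S0302 (wedgeX wedgeCo co_X closed pfaffian det_four)

variable {F : Type*} [Field F]

local notation "V6" => (Fin 3 ⊕ Fin 3 → F)

/-- The action of a matrix on alternating matrices, in coordinates. -/
def wed (A : Matrix (Fin 4) (Fin 4) F) : V6 →ₗ[F] V6 :=
  wedgeCo ∘ₗ ((LinearMap.mulLeft F A).comp (LinearMap.mulRight F Aᵀ)) ∘ₗ wedgeX

theorem X_wed (A : Matrix (Fin 4) (Fin 4) F) (v : V6) : wedgeX (wed A v) = A * wedgeX v * Aᵀ := by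
  have h := closed A v
  simpa [wed, Matrix.mul_assoc] using h

theorem wed_eq (A : Matrix (Fin 4) (Fin 4) F) (v : V6) :
    wed A v = wedgeCo (A * wedgeX v * Aᵀ) := by rw [← X_wed, co_X]

theorem wed_one (v : V6) : wed 1 v = v := by simp [wed_eq, co_X]

theorem wed_mul (A C : Matrix (Fin 4) (Fin 4) F) (v : V6) : wed (A * C) v = wed A (wed C v) := by
  rw [wed_eq, wed_eq A, X_wed]
  simp [Matrix.transpose_mul, Matrix.mul_assoc]

theorem wed_neg (A : Matrix (Fin 4) (Fin 4) F) (v : V6) : wed (-A) v = wed A v := by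
  simp [wed_eq]

theorem Q_wed (A : Matrix (Fin 4) (Fin 4) F) (v : V6) :
    Cfsg.quadFormPlus 3 F (wed A v) = A.det * Cfsg.quadFormPlus 3 F v := by
  rw [wed_eq, pfaffian]

theorem det_X (v : V6) : (wedgeX v).det = Cfsg.quadFormPlus 3 F v ^ 2 := by
  rw [det_four]
  simp [wedgeX, Cfsg.quadFormPlus, Fin.sum_univ_three]
  ring

variable {R : Subgroup (GL (Fin 4) F)}

/-- A vector on which every element of the group acts as a sign. -/
def IsEig (R : Subgroup (GL (Fin 4) F)) (v : V6) : Prop :=
  ∀ x ∈ R, wed (x : Matrix (Fin 4) (Fin 4) F) v = v ∨ wed (x : Matrix (Fin 4) (Fin 4) F) v = -v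

theorem wed_sq (h : Data R) {x : GL (Fin 4) F} (hx : x ∈ R) (v : V6) :
    wed (x : Matrix (Fin 4) (Fin 4) F) (wed (x : Matrix (Fin 4) (Fin 4) F) v) = v := by
  rw [← wed_mul, ← Units.val_mul]
  rcases h.sq x hx with e | e <;> rw [e]
  · rw [Units.val_one, wed_one]
  · rw [Units.val_neg, Units.val_one, wed_neg, wed_one]

theorem wed_comm (h : Data R) {x y : GL (Fin 4) F} (hx : x ∈ R) (hy : y ∈ R) (v : V6) :
    wed (x : Matrix (Fin 4) (Fin 4) F) (wed (y : Matrix (Fin 4) (Fin 4) F) v) =
      wed (y : Matrix (Fin 4) (Fin 4) F) (wed (x : Matrix (Fin 4) (Fin 4) F) v) := by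
  rw [← wed_mul, ← wed_mul, ← Units.val_mul, ← Units.val_mul]
  rcases h.comm x hx y hy with e | e <;> rw [e]
  rw [Units.val_neg, wed_neg]

theorem span_eig [Finite F] (h : Data R) : Submodule.span F {v | IsEig R v} = ⊤ := by
  classical
  have := Fintype.ofFinite F
  suffices key : ∀ S : Finset (GL (Fin 4) F), (∀ x ∈ S, x ∈ R) → (⊤ : Submodule F V6) ≤
      Submodule.span F {v | ∀ x ∈ S, wed (x : Matrix (Fin 4) (Fin 4) F) v = v ∨
        wed (x : Matrix (Fin 4) (Fin 4) F) v = -v} by
    refine eq_top_iff.2 ((key (Finset.univ.filter fun x => x ∈ R) (fun x hx =>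
      (Finset.mem_filter.1 hx).2)).trans (Submodule.span_mono fun v hv x hx => hv x ?_))
    simp [hx]
  intro S
  induction S using Finset.induction with
  | empty => exact fun _ v _ => Submodule.subset_span (by simp)
  | insert a S _ ih =>
    intro hS
    have haR : a ∈ R := hS a (Finset.mem_insert_self a S)
    refine (ih fun x hx => hS x (Finset.mem_insert_of_mem hx)).trans (Submodule.span_le.2 ?_)
    intro v hv
    set W := wed (a : Matrix (Fin 4) (Fin 4) F) v with hW
    have hWv : wed (a : Matrix (Fin 4) (Fin 4) F) W = v := wed_sq h haR v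
    have hcl : ∀ c : F, c * c = 1 → ∀ x ∈ insert a S,
        wed (x : Matrix (Fin 4) (Fin 4) F) (v + c • W) = v + c • W ∨
          wed (x : Matrix (Fin 4) (Fin 4) F) (v + c • W) = -(v + c • W) := by
      intro c hc x hx
      rcases Finset.mem_insert.1 hx with rfl | hxS
      · rw [map_add, map_smul, hWv, ← hW]
        rcases mul_self_eq_one_iff.1 hc with rfl | rfl
        · left; module
        · right; module
      · have e := wed_comm h (hS x hx) haR v
        rw [map_add, map_smul, hW, e]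
        rcases hv x hxS with hvx | hvx <;> rw [hvx]
        · exact Or.inl rfl
        · right; rw [map_neg]; module
    have e : v = (2 : F)⁻¹ • ((v + (1 : F) • W) + (v + (-1 : F) • W)) := by
      rw [show v + (1 : F) • W + (v + (-1 : F) • W) = (2 : F) • v by module, smul_smul,
        inv_mul_cancel₀ h.two, one_smul]
    rw [SetLike.mem_coe, e]
    exact Submodule.smul_mem _ _ (Submodule.add_mem _
      (Submodule.subset_span (hcl 1 (one_mul 1))) (Submodule.subset_span (hcl (-1) (by ring))))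

theorem eig_det_ne (h : Data R) {v : V6} (hv : IsEig R v) (hv0 : v ≠ 0) :
    (wedgeX v).det ≠ 0 := by
  intro hd
  set W := LinearMap.range (Matrix.toLin' (wedgeX v))
  have hinv : ∀ s ∈ matrixSet R, W.map (Matrix.toLin' s) ≤ W := by
    rintro _ ⟨x, hx, rfl⟩ _ ⟨_, ⟨u, rfl⟩, rfl⟩
    obtain ⟨ε, hε⟩ : ∃ ε : F, (x : Matrix (Fin 4) (Fin 4) F) * wedgeX v *
        (x : Matrix (Fin 4) (Fin 4) F)ᵀ = ε • wedgeX v := by
      rcases hv x hx with e | e <;> have e' := congrArg wedgeX e <;> rw [X_wed] at e'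
      · exact ⟨1, by rw [e', one_smul]⟩
      · exact ⟨-1, by rw [e', map_neg, neg_one_smul]⟩
    refine ⟨ε • (((x⁻¹ : GL (Fin 4) F) : Matrix (Fin 4) (Fin 4) F)ᵀ *ᵥ u), ?_⟩
    have key : (x : Matrix (Fin 4) (Fin 4) F) * wedgeX v =
        ε • (wedgeX v * ((x⁻¹ : GL (Fin 4) F) : Matrix (Fin 4) (Fin 4) F)ᵀ) := by
      rw [← Matrix.smul_mul, ← hε, Matrix.mul_assoc, ← Matrix.transpose_mul, Units.inv_mul,
        Matrix.transpose_one, Matrix.mul_one]
    simp only [Matrix.toLin'_apply, Matrix.mulVec_smul, Matrix.mulVec_mulVec, key,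
      Matrix.smul_mulVec]
  rcases h.irr.1 W hinv with hW | hW
  · apply hv0
    have h0 : wedgeX v = 0 := Matrix.toLin'.injective (by
      rw [LinearMap.range_eq_bot.1 hW, map_zero])
    rw [← co_X v, h0, map_zero]
  · obtain ⟨u, hu, hu0⟩ := Matrix.exists_mulVec_eq_zero_iff.2 hd
    have hinj := LinearMap.injective_iff_surjective.2 (LinearMap.range_eq_top.1 hW)
    exact hu (hinj (a₁ := u) (a₂ := 0) (by rw [Matrix.toLin'_apply, hu0, map_zero]))

theorem eig_Q_ne (h : Data R) {v : V6} (hv : IsEig R v) (hv0 : v ≠ 0) :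
    Cfsg.quadFormPlus 3 F v ≠ 0 := fun e =>
  eig_det_ne h hv hv0 (by rw [det_X, e]; ring)

theorem det_one [Finite F] (h : Data R) {x : GL (Fin 4) F} (hx : x ∈ R) :
    (x : Matrix (Fin 4) (Fin 4) F).det = 1 := by
  obtain ⟨v, hv, hv0⟩ : ∃ v : V6, IsEig R v ∧ v ≠ 0 := by
    by_contra hne
    push Not at hne
    have h1 : Submodule.span F {v : V6 | IsEig R v} = ⊥ :=
      Submodule.span_eq_bot.2 fun v hv => hne v hv
    rw [span_eig h] at h1
    exact top_ne_bot h1
  have hQ := eig_Q_ne h hv hv0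
  have h1 := Q_wed (x : Matrix (Fin 4) (Fin 4) F) v
  have hneg : Cfsg.quadFormPlus 3 F (-v) = Cfsg.quadFormPlus 3 F v := by simp [Cfsg.quadFormPlus]
  rcases hv x hx with e | e <;> rw [e] at h1 <;> (try rw [hneg] at h1) <;>
    exact mul_right_cancel₀ hQ (by rw [← h1, one_mul])

/-- The quotient of two common eigenvectors commutes up to sign with the group. -/
theorem quot_sign (h : Data R) {u v : V6} (hu : IsEig R u) (hv : IsEig R v) (hv0 : v ≠ 0)
    {x : GL (Fin 4) F} (hx : x ∈ R) :
    let M := wedgeX u * (wedgeX v)⁻¹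
    ((wed (x : Matrix (Fin 4) (Fin 4) F) u = u ↔ wed (x : Matrix (Fin 4) (Fin 4) F) v = v) →
        (x : Matrix (Fin 4) (Fin 4) F) * M = M * x) ∧
      ((x : Matrix (Fin 4) (Fin 4) F) * M = M * x ∨
        (x : Matrix (Fin 4) (Fin 4) F) * M = -(M * x)) := by
  intro M
  have hd := eig_det_ne h hv hv0
  set A : Matrix (Fin 4) (Fin 4) F := (x : Matrix (Fin 4) (Fin 4) F)
  have hMv : M * wedgeX v = wedgeX u := by
    simp only [M, Matrix.mul_assoc, Matrix.nonsing_inv_mul _ (isUnit_iff_ne_zero.2 hd),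
      Matrix.mul_one]
  have hAd : A.det ≠ 0 := (Matrix.isUnit_iff_isUnit_det _ |>.1 x.isUnit).ne_zero
  have hU : IsUnit (wedgeX v * Aᵀ).det := isUnit_iff_ne_zero.2 (by
    rw [Matrix.det_mul, Matrix.det_transpose]; exact mul_ne_zero hd hAd)
  have hcancel : ∀ P P' : Matrix (Fin 4) (Fin 4) F,
      P * (wedgeX v * Aᵀ) = P' * (wedgeX v * Aᵀ) → P = P' := fun P P' e => by
    have := congrArg (fun Z => Z * (wedgeX v * Aᵀ)⁻¹) e
    simpa [Matrix.mul_assoc, Matrix.mul_nonsing_inv _ hU] using this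
  have key : ∀ ε ε' : F, ε' * ε' = 1 → wed A u = ε • u → wed A v = ε' • v →
      A * M = (ε * ε') • (M * A) := by
    intro ε ε' hε eu ev
    apply hcancel
    have eu' := congrArg wedgeX eu
    have ev' := congrArg wedgeX ev
    rw [X_wed, map_smul] at eu' ev'
    calc A * M * (wedgeX v * Aᵀ) = A * (M * wedgeX v) * Aᵀ := by simp only [Matrix.mul_assoc]
      _ = ε • wedgeX u := by rw [hMv, eu']
      _ = (ε * ε') • (M * (ε' • wedgeX v)) := by
          rw [Matrix.mul_smul, smul_smul, mul_assoc, hε, mul_one, hMv]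
      _ = _ := by rw [← ev', Matrix.smul_mul]; simp only [Matrix.mul_assoc]
  have sg : ∀ w : V6, IsEig R w → ∃ ε : F, ε * ε = 1 ∧ wed A w = ε • w ∧
      (wed A w = w → w ≠ 0 → ε = 1) ∧ (¬ wed A w = w → ε = -1) := by
    intro w hw
    by_cases e : wed A w = w
    · exact ⟨1, one_mul 1, by rw [one_smul, e], fun _ _ => rfl, fun h' => absurd e h'⟩
    · refine ⟨-1, by ring, ?_, fun h' => absurd h' e, fun _ => rfl⟩
      rw [neg_one_smul]; exact (hw x hx).resolve_left e
  obtain ⟨ε, he, eu, hu1, hu2⟩ := sg u hu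
  obtain ⟨ε', he', ev, hv1, hv2⟩ := sg v hv
  have hk := key ε ε' he' eu ev
  refine ⟨fun hiff => ?_, ?_⟩
  · rcases eq_or_ne u 0 with rfl | hu0
    · simp [M]
    have e : ε = ε' := by
      by_cases e : wed A u = u
      · rw [hu1 e hu0, hv1 (hiff.1 e) hv0]
      · rw [hu2 e, hv2 fun e' => e (hiff.2 e')]
    rw [hk, e, he', one_smul]
  · rcases mul_self_eq_one_iff.1 (show (ε * ε') * (ε * ε') = 1 by
      linear_combination (ε' * ε') * he + he') with e | e <;> rw [hk, e]
    · exact Or.inl (one_smul _ _)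
    · exact Or.inr (neg_one_smul _ _)

/-- Common eigenvectors with equal signs are proportional. -/
theorem eig_prop (h : Data R) {u v : V6} (hu : IsEig R u) (hv : IsEig R v) (hv0 : v ≠ 0)
    (hs : ∀ x ∈ R, wed (x : Matrix (Fin 4) (Fin 4) F) u = u ↔
      wed (x : Matrix (Fin 4) (Fin 4) F) v = v) : ∃ c : F, u = c • v := by
  obtain ⟨c, hc⟩ := h.irr.2 (wedgeX u * (wedgeX v)⁻¹) (by
    rintro _ ⟨x, hx, rfl⟩; exact ((quot_sign h hu hv hv0 hx).1 (hs x hx)).symm)
  refine ⟨c, ?_⟩
  have h1 := congrArg (fun Z => Z * wedgeX v) hc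
  simp only [Matrix.mul_assoc,
    Matrix.nonsing_inv_mul _ (isUnit_iff_ne_zero.2 (eig_det_ne h hv hv0)), Matrix.mul_one,
    Matrix.smul_mul, Matrix.one_mul] at h1
  rw [← co_X u, h1, map_smul, co_X]

/-- The values of the form on common eigenvectors differ by squares. -/
theorem eig_Q_square [Finite F] (h : Data R) {u v : V6} (hu : IsEig R u) (hv : IsEig R v)
    (hu0 : u ≠ 0) (hv0 : v ≠ 0) :
    ∃ d : F, d ≠ 0 ∧ Cfsg.quadFormPlus 3 F u = d ^ 2 * Cfsg.quadFormPlus 3 F v := by
  have hd := eig_det_ne h hv hv0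
  obtain ⟨c, r, hr, hM⟩ := h.eq_smul_of_sign (M := wedgeX u * (wedgeX v)⁻¹) (fun e => by
    have h1 := congrArg (fun Z => Z * wedgeX v) e
    simp only [Matrix.mul_assoc, Matrix.nonsing_inv_mul _ (isUnit_iff_ne_zero.2 hd),
      Matrix.mul_one, Matrix.zero_mul] at h1
    exact hu0 (by rw [← co_X u, h1, map_zero]))
    (fun x hx => (quot_sign h hu hv hv0 hx).2)
  have hdet : Cfsg.quadFormPlus 3 F u ^ 2 = c ^ 4 * Cfsg.quadFormPlus 3 F v ^ 2 := by
    have h1 := congrArg (fun Z => Z * wedgeX v) hM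
    simp only [Matrix.mul_assoc, Matrix.nonsing_inv_mul _ (isUnit_iff_ne_zero.2 hd),
      Matrix.mul_one] at h1
    rw [← det_X, ← det_X, h1, Matrix.det_mul, Matrix.det_smul, det_one h hr, Fintype.card_fin,
      mul_one]
  have hc : c ≠ 0 := fun e => eig_Q_ne h hu hu0 (by rw [e] at hdet; simpa using hdet)
  obtain ⟨i, hi⟩ := h.sqrtNeg
  have h2 : (Cfsg.quadFormPlus 3 F u - c ^ 2 * Cfsg.quadFormPlus 3 F v) *
      (Cfsg.quadFormPlus 3 F u + c ^ 2 * Cfsg.quadFormPlus 3 F v) = 0 := by
    linear_combination hdet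
  rcases mul_eq_zero.1 h2 with e | e
  · exact ⟨c, hc, sub_eq_zero.1 e⟩
  · refine ⟨i * c, mul_ne_zero (fun e0 => ?_) hc, ?_⟩
    · rw [e0, mul_zero] at hi; exact one_ne_zero (neg_eq_zero.1 hi.symm)
    · linear_combination e - c ^ 2 * Cfsg.quadFormPlus 3 F v * hi

/-- A basis of common eigenvectors. -/
theorem exists_eigBasis [Finite F] (h : Data R) :
    ∃ b : Basis (Fin 6) F V6, ∀ i, IsEig R (b i) := by
  classical
  obtain ⟨s, hs, hspan, hli⟩ := exists_linearIndependent F {v : V6 | IsEig R v}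
  rw [span_eig h] at hspan
  let b₀ : Basis s F V6 := Basis.mk hli (by rw [Subtype.range_coe, hspan])
  haveI : Fintype s := FiniteDimensional.fintypeBasisIndex b₀
  have hcard : Fintype.card s = 6 := by
    rw [← finrank_eq_card_basis b₀, finrank_fintype_fun_eq_card]; rfl
  refine ⟨b₀.reindex (Fintype.equivFinOfCardEq hcard), fun i => ?_⟩
  rw [Basis.reindex_apply, Basis.mk_apply]
  exact hs (Subtype.coe_prop _)

/-- A vector which every element acts on as a sign lies in one line of the basis. -/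
theorem eig_in_line [Finite F] (h : Data R) (b : Basis (Fin 6) F V6) (hb : ∀ i, IsEig R (b i))
    {v : V6} (hv : IsEig R v) (hv0 : v ≠ 0) : ∃ i, ∃ c : F, v = c • b i := by
  classical
  obtain ⟨i, hi⟩ : ∃ i, b.repr v i ≠ 0 := by
    by_contra hne
    push Not at hne
    exact hv0 (b.repr.injective (by ext i; simp [hne i]))
  refine ⟨i, eig_prop h hv (hb i) (b.ne_zero i) fun x hx => ?_⟩
  -- compare the coefficients at `i`
  have hdiag : ∀ j, ∃ ε : F, wed (x : Matrix (Fin 4) (Fin 4) F) (b j) = ε • b j ∧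
      (wed (x : Matrix (Fin 4) (Fin 4) F) (b j) = b j ↔ ε = 1) := fun j => by
    by_cases e : wed (x : Matrix (Fin 4) (Fin 4) F) (b j) = b j
    · exact ⟨1, by rw [one_smul, e], iff_of_true e rfl⟩
    · refine ⟨-1, by rw [neg_one_smul]; exact (hb j x hx).resolve_left e, iff_of_false e ?_⟩
      exact fun e1 => h.two (by linear_combination -e1)
  choose ε hε hε1 using hdiag
  have hco : b.repr (wed (x : Matrix (Fin 4) (Fin 4) F) v) i = ε i * b.repr v i := by
    conv_lhs => rw [← b.sum_repr v]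
    simp only [map_sum, map_smul, hε, Basis.repr_self, Finsupp.finset_sum_apply,
      Finsupp.smul_apply, Finsupp.single_apply, smul_eq_mul]
    rw [Finset.sum_eq_single i (fun j _ hj => by simp [hj]) (by simp)]
    simp [mul_comm]
  rw [hε1 i]
  rcases hv x hx with e | e <;> rw [e] at hco
  · refine iff_of_true e (mul_right_cancel₀ hi ?_)
    rw [one_mul, ← hco]
  · rw [map_neg, Finsupp.neg_apply] at hco
    refine iff_of_false (fun e' => hv0 ?_) fun e1 => hi ?_
    · have : (2 : F) • v = 0 := by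
        have h3 : v = -v := e'.symm.trans e
        linear_combination (norm := module) h3
      exact (smul_eq_zero.1 this).resolve_left h.two
    · rw [e1, one_mul] at hco
      exact (mul_eq_zero.1 (show (2 : F) * b.repr v i = 0 by linear_combination -hco)).resolve_left
        h.two

/-- The lines of the basis form a frame. -/
theorem lines_frame [Finite F] (h : Data R) (b : Basis (Fin 6) F V6) (hb : ∀ i, IsEig R (b i))
    {B : LinearMap.BilinForm F V6} (C : Orth.Space (Cfsg.quadFormPlus 3 F) B) :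
    IsOrthogonalMDecomposition (Cfsg.quadFormPlus 3 F) 1 (fun i => F ∙ b i) := by
  have hQ : ∀ i, Cfsg.quadFormPlus 3 F (b i) ≠ 0 := fun i => eig_Q_ne h (hb i) (b.ne_zero i)
  refine ⟨⟨⟨by norm_num, one_pos, fun i => finrank_span_singleton (b.ne_zero i),
    b.linearIndependent.iSupIndep_span_singleton, ?_⟩, fun i => ?_, fun i j hij => ?_⟩,
    fun i j => ?_⟩
  · rw [← Submodule.span_range_eq_iSup]; exact b.span_eq
  · intro w hw hw0
    obtain ⟨c, rfl⟩ := Submodule.mem_span_singleton.1 hw
    have hne : B (c • b i) (c • b i) ≠ 0 := by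
      rw [← C.polar, QuadraticMap.polar, ← two_smul F (c • b i), C.smul, C.smul]
      have hc : c ≠ 0 := fun e => hw0 (by rw [e, zero_smul])
      intro e
      exact mul_ne_zero (mul_ne_zero h.two (pow_ne_zero 2 hc)) (hQ i) (by linear_combination e)
    rw [← C.polar] at hne
    exact ⟨⟨_, hw, hne⟩, ⟨_, hw, hne⟩⟩
  · obtain ⟨x, hx, hdiff⟩ : ∃ x ∈ R, ¬ (wed (x : Matrix (Fin 4) (Fin 4) F) (b i) = b i ↔
        wed (x : Matrix (Fin 4) (Fin 4) F) (b j) = b j) := by
      by_contra hne
      push Not at hne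
      obtain ⟨c, hc⟩ := eig_prop h (hb i) (hb j) (b.ne_zero j) hne
      exact hij (b.linearIndependent.eq_of_smul_apply_eq_smul_apply (1 : F) c (i := i) (j := j)
        one_ne_zero (by rwa [one_smul]))
    have hiso : B (wed (x : Matrix (Fin 4) (Fin 4) F) (b i))
        (wed (x : Matrix (Fin 4) (Fin 4) F) (b j)) = B (b i) (b j) := by
      rw [← C.polar, ← C.polar, QuadraticMap.polar, QuadraticMap.polar, ← map_add, Q_wed, Q_wed,
        Q_wed, det_one h hx]
      ring
    have h0 : B (b i) (b j) = 0 := by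
      have : B (b i) (b j) = -B (b i) (b j) := by
        rcases hb i x hx with ei | ei <;> rcases hb j x hx with ej | ej
        · exact absurd (iff_of_true ei ej) hdiff
        · rw [ei, ej, map_neg] at hiso; exact hiso.symm
        · rw [ei, ej, map_neg, LinearMap.neg_apply] at hiso; exact hiso.symm
        · refine absurd (iff_of_false (fun e => ?_) fun e => ?_) hdiff
          · exact b.ne_zero i ((smul_eq_zero.1 (show (2 : F) • b i = 0 by
              linear_combination (norm := module) (e.symm.trans ei))).resolve_left h.two)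
          · exact b.ne_zero j ((smul_eq_zero.1 (show (2 : F) • b j = 0 by
              linear_combination (norm := module) (e.symm.trans ej))).resolve_left h.two)
      exact (mul_eq_zero.1 (show (2 : F) * B (b i) (b j) = 0 by linear_combination this)).resolve_left
        h.two
    intro u hu v hv
    obtain ⟨a, rfl⟩ := Submodule.mem_span_singleton.1 hu
    obtain ⟨c, rfl⟩ := Submodule.mem_span_singleton.1 hv
    simp [C.polar, map_smul, h0]
  · obtain ⟨d, hd, hQd⟩ := eig_Q_square h (hb i) (hb j) (b.ne_zero i) (b.ne_zero j)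
    refine ⟨((LinearEquiv.toSpanNonzeroSingleton F V6 (b i) (b.ne_zero i)).symm.trans
      (LinearEquiv.toSpanNonzeroSingleton F V6 (d • b j) (smul_ne_zero hd (b.ne_zero j)))).trans
      (LinearEquiv.ofEq _ _ (Submodule.span_singleton_smul_eq (Ne.isUnit hd) _)), fun w => ?_⟩
    obtain ⟨a, ha⟩ := (LinearEquiv.toSpanNonzeroSingleton F V6 (b i) (b.ne_zero i)).surjective w
    subst ha
    rw [LinearEquiv.trans_apply, LinearEquiv.trans_apply, LinearEquiv.symm_apply_apply]
    show Cfsg.quadFormPlus 3 F (a • d • b j) = Cfsg.quadFormPlus 3 F (a • b i)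
    rw [C.smul, C.smul, C.smul, hQd]

/-- A determinant one matrix acting as signs on the basis lies in the group. -/
theorem mem_of_signs [Finite F] (h : Data R) (b : Basis (Fin 6) F V6) (hb : ∀ i, IsEig R (b i))
    {y : GL (Fin 4) F} (hy : (y : Matrix (Fin 4) (Fin 4) F).det = 1)
    (hsig : ∀ i, ∃ ε : F, wed (y : Matrix (Fin 4) (Fin 4) F) (b i) = ε • b i)
    (hker : ∀ g : GL (Fin 4) F, (g : Matrix (Fin 4) (Fin 4) F).det = 1 →
      (∀ v, wed (g : Matrix (Fin 4) (Fin 4) F) v = v) → g = 1 ∨ g = -1) : y ∈ R := by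
  have hcomm : ∀ x ∈ R, (x : Matrix (Fin 4) (Fin 4) F) * y = y * x ∨
      (x : Matrix (Fin 4) (Fin 4) F) * y = -(y * x) := by
    intro x hx
    have e : wed (x : Matrix (Fin 4) (Fin 4) F) ∘ₗ wed (y : Matrix (Fin 4) (Fin 4) F) =
        wed (y : Matrix (Fin 4) (Fin 4) F) ∘ₗ wed (x : Matrix (Fin 4) (Fin 4) F) := b.ext fun i => by
      obtain ⟨ε, hε⟩ := hsig i
      rcases hb i x hx with e | e <;> simp [LinearMap.comp_apply, hε, e]
    have hg := hker ((y * x)⁻¹ * (x * y)) (by
      rw [Units.val_mul, Matrix.det_mul, ← Matrix.GeneralLinearGroup.val_det_apply, map_inv,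
        map_mul, Units.val_inv_eq_inv_val, Units.val_mul, Units.val_mul, Matrix.det_mul,
        Matrix.GeneralLinearGroup.val_det_apply, Matrix.GeneralLinearGroup.val_det_apply, hy,
        det_one h hx]
      simp) (fun v => by
        rw [Units.val_mul, wed_mul, Units.val_mul x y, wed_mul]
        rw [show wed (x : Matrix (Fin 4) (Fin 4) F) (wed (y : Matrix (Fin 4) (Fin 4) F) v) =
          wed (y : Matrix (Fin 4) (Fin 4) F) (wed (x : Matrix (Fin 4) (Fin 4) F) v) from
            LinearMap.congr_fun e v, ← wed_mul (y : Matrix (Fin 4) (Fin 4) F), ← Units.val_mul,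
          ← wed_mul, ← Units.val_mul, inv_mul_cancel, Units.val_one, wed_one])
    rcases hg with e' | e'
    · exact Or.inl (congrArg Units.val (inv_mul_eq_one.1 e').symm)
    · right
      have : x * y = -(y * x) := by
        rw [inv_mul_eq_iff_eq_mul] at e'
        rw [e', mul_neg, mul_one]
      exact congrArg Units.val this
  obtain ⟨c, r, hr, hM⟩ := h.eq_smul_of_sign (M := (y : Matrix (Fin 4) (Fin 4) F))
    (fun e => by rw [e, Matrix.det_zero] at hy; exact zero_ne_one hy) hcomm
  have hc : c ^ 4 = 1 := by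
    rw [hM, Matrix.det_smul, det_one h hr, Fintype.card_fin, mul_one] at hy
    exact hy
  obtain ⟨z, hz, hze⟩ := h.roots c hc
  rw [show y = z * r from Units.ext (by rw [Units.val_mul, hze, Matrix.smul_mul, Matrix.one_mul, hM])]
  exact R.mul_mem hz hr

/-- The normaliser of a group of symplectic type is maximal in `SL₄`, given the maximality of
frame stabilisers in `Ω⁺₆`. -/
theorem isMaximalIn_six {F : Type*} [Field F] [Fintype F] {R : Subgroup (GL (Fin 4) F)}
    (h : Data R)
    (hmax : ∀ D : Fin 6 → Submodule F (Fin 3 ⊕ Fin 3 → F),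
      IsOrthogonalMDecomposition (Cfsg.quadFormPlus 3 F) 1 D →
      IsMaximalIn (omegaGL (Cfsg.quadFormPlus 3 F))
        (decompositionStabilizer D ⊓ omegaGL (Cfsg.quadFormPlus 3 F))) :
    IsMaximalIn (specialLinear (Fin 4) F) (subgroupNormalizer R ⊓ specialLinear (Fin 4) F) := by
  classical
  obtain ⟨φ, hφ, hφX, hker⟩ := Cfsg.Agent.S0302.exists_wedge F
  obtain ⟨B, C⟩ := Orth.exists_space_plus (F := F) 3
  obtain ⟨b, hb⟩ := exists_eigBasis h
  set D : Fin 6 → Submodule F (Fin 3 ⊕ Fin 3 → F) := fun i => F ∙ b i with hD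
  have hmax := hmax D (lines_frame h b hb C)
  let toG : Matrix.SpecialLinearGroup (Fin 4) F →* GL (Fin 4) F := Matrix.SpecialLinearGroup.toGL
  have hφw : ∀ g v, (φ g).val *ᵥ v = wed (g : Matrix (Fin 4) (Fin 4) F) v := fun g v => by
    rw [wed_eq, ← hφX, co_X]
  have hSL : ∀ g : GL (Fin 4) F, g ∈ specialLinear (Fin 4) F →
      ∃ s : Matrix.SpecialLinearGroup (Fin 4) F, toG s = g := fun g hg => by
    refine ⟨⟨(g : Matrix (Fin 4) (Fin 4) F), ?_⟩, Units.ext rfl⟩
    rw [← Matrix.GeneralLinearGroup.val_det_apply, show Matrix.GeneralLinearGroup.det g = 1 from hg,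
      Units.val_one]
  have htoS : ∀ s, toG s ∈ specialLinear (Fin 4) F := fun s => Units.ext s.2
  have hdet : ∀ g : GL (Fin 4) F, g ∈ specialLinear (Fin 4) F →
      (g : Matrix (Fin 4) (Fin 4) F).det = 1 := fun g hg => by
    rw [← Matrix.GeneralLinearGroup.val_det_apply, show Matrix.GeneralLinearGroup.det g = 1 from hg,
      Units.val_one]
  -- the image is `Ω`
  have hrange : φ.range = omegaGL (Cfsg.quadFormPlus 3 F) := by
    have h6 : 2 ≤ Fintype.card (Fin 3 ⊕ Fin 3) := by simp
    obtain ⟨hsq, -, hi4⟩ := SmallIso.omega_facts C h6 (Or.inl h.two)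
    set χ : Matrix.SpecialLinearGroup (Fin 4) F →* ↥(Cfsg.isometryGroup F (Cfsg.quadFormPlus 3 F)) :=
      φ.codRestrict _ hφ
    have hle : χ.range ≤ Cfsg.Omega F (Cfsg.quadFormPlus 3 F) := by
      rintro _ ⟨g, rfl⟩
      have : SmallIso.squares (Matrix.SpecialLinearGroup (Fin 4) F) ≤
          (Cfsg.Omega F (Cfsg.quadFormPlus 3 F)).comap χ :=
        (Subgroup.closure_le _).mpr fun x ⟨y, hy⟩ => by
          show χ x ∈ Cfsg.Omega F (Cfsg.quadFormPlus 3 F)
          rw [hy, map_mul]
          exact hsq _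
      exact this (by rw [SmallIso.squares_SL (Or.inl h.two)]; trivial)
    have hk : Nat.card φ.ker ≤ 2 := (SmallIso.card_le_roots φ.ker (fun z => z.val 0 0)
      (fun x hx y hy e => by
        obtain ⟨c, -, hc⟩ := hker x hx
        obtain ⟨d, -, hd⟩ := hker y hy
        refine Subtype.ext ?_
        rw [hc, hd] at e
        rw [hc, hd]
        simp at e
        rw [e]) (fun x hx => by
        obtain ⟨c, hc1, hc⟩ := hker x hx
        rw [hc]
        simpa using hc1)).1
    have hkeq : χ.ker = φ.ker := by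
      ext g
      simp [χ, MonoidHom.mem_ker, Subtype.ext_iff]
    have hO := (Orth.counts_plus (F := F) 3).2
    rw [Nat.card_eq_fintype_card (α := F)] at hO
    have hcard : (Nat.card ↥(Cfsg.isometryGroup F (Cfsg.quadFormPlus 3 F)) : ℤ) =
        2 * Nat.card (Matrix.SpecialLinearGroup (Fin 4) F) := by
      rw [hO, Cfsg.Agent.S0302.card_SL_four]
      simp [Finset.prod_range_succ]
      ring
    have hcard' : Nat.card ↥(Cfsg.isometryGroup F (Cfsg.quadFormPlus 3 F)) =
        2 * Nat.card (Matrix.SpecialLinearGroup (Fin 4) F) := by exact_mod_cast hcard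
    have heq : χ.range = Cfsg.Omega F (Cfsg.quadFormPlus 3 F) := by
      refine Subgroup.eq_of_le_of_card_ge hle ?_
      have e1 := Subgroup.card_eq_card_quotient_mul_card_subgroup χ.ker
      rw [Nat.card_congr (QuotientGroup.quotientKerEquivRange χ).toEquiv, hkeq] at e1
      have e2 := Subgroup.card_mul_index (Cfsg.Omega F (Cfsg.quadFormPlus 3 F))
      rw [hi4 h.two, hcard'] at e2
      nlinarith [hk, Nat.card_pos (α := χ.range)]
    rw [omegaGL, ← heq, MonoidHom.map_range]
    rfl
  have hkerR : ∀ s, φ s = 1 → toG s ∈ R := fun s hs => by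
    obtain ⟨c, hc, hsc⟩ := hker s hs
    obtain ⟨z, hz, hze⟩ := h.roots c (by linear_combination (c * c + 1) * hc)
    rwa [show toG s = z from Units.ext (hsc.trans hze.symm)]
  have hker2 : ∀ g : GL (Fin 4) F, (g : Matrix (Fin 4) (Fin 4) F).det = 1 →
      (∀ v, wed (g : Matrix (Fin 4) (Fin 4) F) v = v) → g = 1 ∨ g = -1 := fun g hg hv => by
    obtain ⟨c, hc, hgc⟩ := hker ⟨(g : Matrix (Fin 4) (Fin 4) F), hg⟩
      (Units.ext (Matrix.toLin'.injective (LinearMap.ext fun v => by
        rw [Matrix.toLin'_apply, Units.val_one, Matrix.toLin'_one, LinearMap.id_apply]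
        exact (hφw _ v).trans (hv v))))
    rcases mul_self_eq_one_iff.1 hc with rfl | rfl
    · exact Or.inl (Units.ext (by rw [Units.val_one]; exact hgc.trans (one_smul _ _)))
    · exact Or.inr (Units.ext (by rw [Units.val_neg, Units.val_one]; exact hgc.trans (neg_one_smul _ _)))
  have hRS : R ≤ specialLinear (Fin 4) F := fun x hx =>
    Units.ext (by rw [Matrix.GeneralLinearGroup.val_det_apply]; exact det_one h hx)
  -- the normaliser is the stabiliser of the frame
  have hiff : ∀ s, toG s ∈ subgroupNormalizer R ↔ φ s ∈ decompositionStabilizer D := by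
    intro s
    have hmap : ∀ i, (D i).map (Matrix.toLin' (φ s).val) =
        F ∙ wed (s : Matrix (Fin 4) (Fin 4) F) (b i) := fun i => by
      rw [hD, Submodule.map_span, Set.image_singleton, Matrix.toLin'_apply, hφw]
    have hinj : ∀ {u v}, wed (s : Matrix (Fin 4) (Fin 4) F) u =
        wed (s : Matrix (Fin 4) (Fin 4) F) v → u = v := fun {u v} e => by
      have := congrArg (fun v => (φ s⁻¹).val *ᵥ v) ((hφw s u).trans (e.trans (hφw s v).symm))
      simpa [Matrix.mulVec_mulVec, ← Units.val_mul] using this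
    constructor
    · intro hN
      have he : ∀ i, IsEig R (wed (s : Matrix (Fin 4) (Fin 4) F) (b i)) := by
        intro i x hx
        have hx' : (toG s)⁻¹ * x * toG s ∈ R := by
          rw [subgroupNormalizer] at hN
          exact (Subgroup.mem_normalizer_iff''.1 hN x).1 hx
        have e : wed (x : Matrix (Fin 4) (Fin 4) F) (wed (s : Matrix (Fin 4) (Fin 4) F) (b i)) =
            wed (s : Matrix (Fin 4) (Fin 4) F)
              (wed (((toG s)⁻¹ * x * toG s : GL (Fin 4) F) : Matrix (Fin 4) (Fin 4) F) (b i)) := by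
          rw [← wed_mul, ← wed_mul]
          congr 2
          change _ * ((toG s : GL (Fin 4) F) : Matrix (Fin 4) (Fin 4) F) =
            ((toG s : GL (Fin 4) F) : Matrix (Fin 4) (Fin 4) F) * _
          rw [← Units.val_mul, ← Units.val_mul]
          congr 1
          group
        rcases hb i _ hx' with e' | e' <;> rw [e, e']
        · exact Or.inl rfl
        · exact Or.inr (map_neg _ _)
      have hl : ∀ i, ∃ j, ∃ c : F, wed (s : Matrix (Fin 4) (Fin 4) F) (b i) = c • b j := fun i =>
        eig_in_line h b hb (he i) fun e => b.ne_zero i (hinj (e.trans (map_zero _).symm))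
      choose σ c hσ using hl
      have hc0 : ∀ i, c i ≠ 0 := fun i e => b.ne_zero i (hinj (by rw [hσ i, e, zero_smul, map_zero]))
      have hσi : Function.Injective σ := fun i j e => by
        have e1 : wed (s : Matrix (Fin 4) (Fin 4) F) (c j • b i) =
            wed (s : Matrix (Fin 4) (Fin 4) F) (c i • b j) := by
          rw [map_smul, map_smul, hσ i, hσ j, e, smul_comm]
        exact b.linearIndependent.eq_of_smul_apply_eq_smul_apply _ _ (i := i) (j := j) (hc0 j) (hinj e1)
      refine ⟨Equiv.ofBijective σ (Finite.injective_iff_bijective.1 hσi), fun i => ?_⟩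
      rw [hmap, hσ i, Submodule.span_singleton_smul_eq (Ne.isUnit (hc0 i))]
      rfl
    · rintro ⟨σ, hσ⟩
      have hl : ∀ i, ∃ c : F, wed (s : Matrix (Fin 4) (Fin 4) F) (b i) = c • b (σ i) := fun i => by
        have : wed (s : Matrix (Fin 4) (Fin 4) F) (b i) ∈ D (σ i) := by
          rw [← hσ i, hmap]; exact Submodule.mem_span_singleton_self _
        obtain ⟨c, hc⟩ := Submodule.mem_span_singleton.1 this
        exact ⟨c, hc.symm⟩
      choose c hc using hl
      have key : ∀ x ∈ R, toG s * x * (toG s)⁻¹ ∈ R := by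
        intro x hx
        refine mem_of_signs h b hb (hdet _ (mul_mem (mul_mem (htoS s) (hRS hx))
          (inv_mem (htoS s)))) (fun j => ?_) hker2
        obtain ⟨i, rfl⟩ := σ.surjective j
        have hc0 : c i ≠ 0 := fun e => b.ne_zero i (hinj (by rw [hc i, e, zero_smul, map_zero]))
        refine ⟨if wed (x : Matrix (Fin 4) (Fin 4) F) (b i) = b i then 1 else -1, ?_⟩
        have hback : wed (((toG s)⁻¹ : GL (Fin 4) F) : Matrix (Fin 4) (Fin 4) F) (b (σ i)) =
            (c i)⁻¹ • b i := by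
          have h1 : wed (((toG s)⁻¹ : GL (Fin 4) F) : Matrix (Fin 4) (Fin 4) F)
              (wed (toG s : Matrix (Fin 4) (Fin 4) F) (b i)) = b i := by
            rw [← wed_mul, Units.inv_mul, wed_one]
          rw [show wed (toG s : Matrix (Fin 4) (Fin 4) F) (b i) = c i • b (σ i) from hc i,
            map_smul] at h1
          rw [← h1, smul_smul, inv_mul_cancel₀ hc0, one_smul]
        rw [Units.val_mul, Units.val_mul, wed_mul, wed_mul, hback, map_smul, map_smul]
        split_ifs with e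
        · rw [e, show wed (toG s : Matrix (Fin 4) (Fin 4) F) (b i) = c i • b (σ i) from hc i,
            smul_smul, inv_mul_cancel₀ hc0]
        · rw [(hb i x hx).resolve_left e, map_neg,
            show wed (toG s : Matrix (Fin 4) (Fin 4) F) (b i) = c i • b (σ i) from hc i,
            smul_neg, smul_smul, inv_mul_cancel₀ hc0, neg_one_smul, one_smul]
      rw [subgroupNormalizer, Subgroup.mem_normalizer_iff]
      have hfin : (R.map (MulAut.conj (toG s)).toMonoidHom) = R := by
        refine Subgroup.eq_of_le_of_card_ge ?_ ?_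
        · rintro _ ⟨x, hx, rfl⟩; exact key x hx
        · rw [Subgroup.card_map_of_injective (MulAut.conj (toG s)).injective]
      intro x
      refine ⟨key x, fun hx => ?_⟩
      rw [← hfin] at hx
      obtain ⟨z, hz, hze⟩ := hx
      rwa [← (MulAut.conj (toG s)).injective (hze : MulAut.conj (toG s) z = MulAut.conj (toG s) x)]
  -- transfer
  refine ⟨lt_of_le_of_ne inf_le_right fun e => hmax.1.ne (le_antisymm inf_le_right ?_),
    fun L hNL hLS => ?_⟩
  · intro y hy
    rw [← hrange] at hy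
    obtain ⟨s, rfl⟩ := hy
    refine ⟨(hiff s).1 (e.ge (htoS s)).1, ?_⟩
    rw [← hrange]; exact ⟨s, rfl⟩
  set L' := (L.comap toG).map φ
  have h1 : decompositionStabilizer D ⊓ omegaGL (Cfsg.quadFormPlus 3 F) ≤ L' := by
    rintro y ⟨hyD, hyO⟩
    rw [← hrange] at hyO
    obtain ⟨s, rfl⟩ := hyO
    exact ⟨s, hNL ⟨(hiff s).2 hyD, htoS s⟩, rfl⟩
  have h2 : L' ≤ omegaGL (Cfsg.quadFormPlus 3 F) := hrange ▸ Subgroup.map_le_range _ _
  rcases hmax.2 L' h1 h2 with e | e
  · refine Or.inl (le_antisymm (fun g hg => ⟨?_, hLS hg⟩) hNL)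
    obtain ⟨s, rfl⟩ := hSL g (hLS hg)
    exact (hiff s).2 (e.le ⟨s, hg, rfl⟩).1
  · refine Or.inr (le_antisymm hLS fun g hg => ?_)
    obtain ⟨s, rfl⟩ := hSL g hg
    obtain ⟨t, ht, hts⟩ := e.ge (show φ s ∈ omegaGL (Cfsg.quadFormPlus 3 F) by
      rw [← hrange]; exact ⟨s, rfl⟩)
    have hts' : φ (s * t⁻¹) = 1 := by rw [map_mul, map_inv, ← hts, mul_inv_cancel]
    have hmem : toG (s * t⁻¹) ∈ L :=
      hNL ⟨Subgroup.le_normalizer (hkerR _ hts'), htoS _⟩
    rw [show toG s = toG (s * t⁻¹) * toG t by rw [← map_mul, inv_mul_cancel_right]]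
    exact L.mul_mem hmem ht

end Cfsg.Lib.Linear.Klein
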