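import Cfsg.Agent.Lib.Linear.Klein.Frame
import Cfsg.Agent.Lib.Linear.FrameSmall.Max
import Cfsg.Agent.Lib.MinusSix.Main
import Cfsg.Agent.Lib.Linear.SUFour.OrthImage

/-!
# The normaliser of a group of symplectic type in `SU₄(p)`

The twisted fixed vectors of the exterior square carry the minus form, the group `R` fixes a frame
there, and the maximality of frame stabilisers in `Ω⁻₆(p)` transfers.
-/

set_option autoImplicit false

namespace Cfsg.Lib.Linear.Klein.Uni

open Module Cfsg.Geo
open scoped Matrix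
open Cfsg.Agent.S0302 (wedgeX wedgeCo co_X closed pfaffian)
open Cfsg.Lib.Linear

variable {F : Type*} [Field F]

local notation "V6" => (Fin 3 ⊕ Fin 3 → F)
local notation "I6" => ((Fin 2 ⊕ Fin 2) ⊕ Fin 2)

/-- The vectors fixed by the exchange of the halves composed with `σ`. -/
def Fixed (σ : F →+* F) (v : V6) : Prop := ∀ k, v k.swap = σ (v k)

theorem wedgeX_swap_mul (v : V6) :
    wedgeX v * wedgeX (fun k => v k.swap) = (-Cfsg.quadFormPlus 3 F v) • (1 : Matrix (Fin 4) (Fin 4) F) := by
  ext i j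
  fin_cases i <;> fin_cases j <;>
    simp [wedgeX, Matrix.mul_apply, Fin.sum_univ_four, Fin.sum_univ_three, Cfsg.quadFormPlus] <;> ring

theorem wedgeX_map (σ : F →+* F) (v : V6) :
    (wedgeX v).map σ = wedgeX (fun k => σ (v k)) := by
  ext i j
  fin_cases i <;> fin_cases j <;> simp [wedgeX]

theorem fixed_wed (σ : F →+* F) {A : Matrix (Fin 4) (Fin 4) F} (hA : A.det = 1)
    (hU : A.map σ * Aᵀ = 1) {v : V6} (hv : Fixed σ v) : Fixed σ (wed A v) := by
  intro k
  have e : ∀ (B : Matrix (Fin 4) (Fin 4) F) (w : V6), wed B w = Cfsg.Lib.MinusSix.act B w :=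
    fun B w => wed_eq B w
  have h := congrFun (Cfsg.Lib.MinusSix.act_swap hA hU v) k
  rw [e, h, Cfsg.Lib.MinusSix.act_map σ, show (fun k => v k.swap) = fun k => σ (v k) from funext hv]

/-- The norm of a matrix carrying one fixed vector to another. -/
theorem norm_ratio (σ : F →+* F) {u v : V6} (hu : Fixed σ u) (hv : Fixed σ v)
    {r : Matrix (Fin 4) (Fin 4) F} (hr : rᵀ * r.map σ = 1) {c : F}
    (h : wedgeX u = (c • r) * wedgeX v) :
    Cfsg.quadFormPlus 3 F u = c * σ c * Cfsg.quadFormPlus 3 F v := by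
  have hanti : ∀ w : V6, (wedgeX w)ᵀ = -wedgeX w := fun w => by
    ext i j
    fin_cases i <;> fin_cases j <;> simp [wedgeX]
  have h' : wedgeX u = c • (wedgeX v * rᵀ) := by
    have e := congrArg Matrix.transpose h
    rw [hanti, Matrix.smul_mul, Matrix.transpose_smul, Matrix.transpose_mul, hanti, Matrix.neg_mul,
      smul_neg, neg_inj] at e
    exact e
  have hmap : ∀ w : V6, Fixed σ w → (wedgeX w).map σ = wedgeX (fun k => w k.swap) := fun w hw => by
    rw [wedgeX_map, show (fun k => w k.swap) = fun k => σ (w k) from funext hw]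
  have e1 : wedgeX u * (wedgeX u).map σ =
      (c * σ c) • (wedgeX v * (wedgeX v).map σ) := by
    nth_rw 2 [h]
    rw [h', Matrix.smul_mul, Matrix.smul_mul, Matrix.map_smul' _ _ _ (map_mul σ), Matrix.map_mul,
      Matrix.mul_smul, smul_smul, Matrix.mul_assoc, ← Matrix.mul_assoc rᵀ, hr, Matrix.one_mul]
  rw [hmap u hu, hmap v hv, wedgeX_swap_mul, wedgeX_swap_mul, smul_smul] at e1
  have e2 := congrFun (congrFun e1 0) 0
  simp at e2
  linear_combination e2

variable {F₀ : Subfield F}

/-- The coordinates of the fixed vectors. -/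
def emb (F₀ : Subfield F) (c d : F) (σ : F →+* F) (hfix : ∀ x ∈ F₀, σ x = x) :
    (I6 → F₀) →ₗ[F₀] V6 where
  toFun v :=
    let p : F := (v (.inl (.inl 0)) : F) + c * v (.inl (.inl 1))
    let m : F := (v (.inl (.inr 0)) : F) / 4 - c * ((v (.inl (.inr 1)) : F) / (4 * (c * c)))
    let z : F := (v (.inr 0) : F) + c * v (.inr 1)
    Sum.elim ![p + m, d * (p - m), z] ![σ (p + m), σ (d * (p - m)), σ z]
  map_add' u w := by
    funext k
    rcases k with k | k <;> fin_cases k <;>
      simp [map_add, map_sub, map_mul, map_div₀] <;> ring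
  map_smul' r u := by
    funext k
    rcases k with k | k <;> fin_cases k <;>
      simp [map_add, map_sub, map_mul, map_div₀, Subfield.smul_def, hfix _ r.2] <;> ring

theorem emb_fixed {c d : F} {σ : F →+* F} (hσ : ∀ x, σ (σ x) = x) (hfix : ∀ x ∈ F₀, σ x = x)
    (v : I6 → F₀) : Fixed σ (emb F₀ c d σ hfix v) := by
  intro k
  rcases k with k | k <;> fin_cases k <;> simp [emb, hσ]

theorem emb_form {c d : F} {σ : F →+* F} (hfix : ∀ x ∈ F₀, σ x = x) (hc : σ c = -c) (hc0 : c ≠ 0)
    (h2 : (2 : F) ≠ 0) (hd : d * σ d = -1) {δ : F₀} (hδ : c * c = δ) (v : I6 → F₀) :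
    Cfsg.quadFormPlus 3 F (emb F₀ c d σ hfix v) =
      (Cfsg.quadFormMinus 2 F₀ 0 (-δ) v : F) := by
  have h4 : (4 : F) ≠ 0 := by
    rw [show (4 : F) = 2 * 2 by norm_num]; exact mul_ne_zero h2 h2
  simp only [Cfsg.quadFormPlus, Cfsg.quadFormMinus, emb, Fin.sum_univ_three, Fin.sum_univ_two,
    LinearMap.coe_mk, AddHom.coe_mk, Sum.elim_inl, Sum.elim_inr, Matrix.cons_val_zero,
    Matrix.cons_val_one, Matrix.cons_val, map_add, map_sub, map_mul, map_div₀, map_ofNat, hc,
    hfix _ (SetLike.coe_mem _)]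
  push_cast
  rw [← hδ]
  have e : ∀ A B : F, d * A * (σ d * B) = -(A * B) := fun A B => by linear_combination (A * B) * hd
  rw [e]
  field_simp
  ring

theorem exists_emb {c d : F} {σ : F →+* F} (hσ : ∀ x, σ (σ x) = x) (hfix : ∀ x ∈ F₀, σ x = x)
    (hmem : ∀ x, σ x = x → x ∈ F₀) (hc : σ c = -c) (hc0 : c ≠ 0)
    (h2 : (2 : F) ≠ 0) (hd : d * σ d = -1) {v : V6} (hv : Fixed σ v) :
    ∃ w, emb F₀ c d σ hfix w = v := by
  have h4 : (4 : F) ≠ 0 := by
    rw [show (4 : F) = 2 * 2 by norm_num]; exact mul_ne_zero h2 h2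
  have hd0 : d ≠ 0 := fun e => by rw [e, zero_mul] at hd; exact one_ne_zero (neg_eq_zero.1 hd.symm)
  let re : F → F₀ := fun z => ⟨(z + σ z) / 2, hmem _ (by
    rw [map_div₀, map_add, hσ, map_ofNat, add_comm])⟩
  let im : F → F₀ := fun z => ⟨(z - σ z) / (2 * c), hmem _ (by
    rw [map_div₀, map_sub, map_mul, hσ, map_ofNat, hc, mul_neg, div_neg, ← neg_div, neg_sub])⟩
  have hs : ∀ z : F, (re z : F) + c * im z = z := fun z => by
    simp only [re, im]
    field_simp
    ring
  set p := (v (.inl 0) + v (.inl 1) / d) / 2 with hp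
  set m := (v (.inl 0) - v (.inl 1) / d) / 2 with hm
  have hδm : c * c ∈ F₀ := hmem _ (by rw [map_mul, hc]; ring)
  refine ⟨Sum.elim (Sum.elim ![re p, im p] ![4 * re m, -(4 * ⟨c * c, hδm⟩ * im m)])
    ![re (v (.inl 2)), im (v (.inl 2))], ?_⟩
  have hl : ∀ i, emb F₀ c d σ hfix (Sum.elim (Sum.elim ![re p, im p]
      ![4 * re m, -(4 * ⟨c * c, hδm⟩ * im m)]) ![re (v (.inl 2)), im (v (.inl 2))]) (.inl i) =
      v (.inl i) := by
    intro i
    have e4 : ((4 : F₀) : F) = 4 := map_ofNat F₀.subtype 4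
    have hm' : ((4 * re m : F₀) : F) / 4 -
        c * (((-(4 * ⟨c * c, hδm⟩ * im m) : F₀) : F) / (4 * (c * c))) = m := by
      conv_rhs => rw [← hs m]
      push_cast [e4]
      field_simp
      ring
    simp only [emb, LinearMap.coe_mk, AddHom.coe_mk, Sum.elim_inl, Sum.elim_inr,
      Matrix.cons_val_zero, Matrix.cons_val_one, hs, hm']
    fin_cases i
    · simp [hp, hm]; field_simp; ring
    · simp [hp, hm]; field_simp; ring
    · simp
  funext k
  rcases k with i | i
  · exact hl i
  · have e := emb_fixed (c := c) (d := d) hσ hfix (Sum.elim (Sum.elim ![re p, im p]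
      ![4 * re m, -(4 * ⟨c * c, hδm⟩ * im m)]) ![re (v (.inl 2)), im (v (.inl 2))]) (.inl i)
    rw [Sum.swap_inl, hl] at e
    rw [e, ← hv (.inl i), Sum.swap_inl]

set_option maxHeartbeats 1600000 in
/-- The normaliser of a group of symplectic type is maximal in `SU₄(p)`. -/
theorem maximal [Fintype F] {p : ℕ} (hp : p.Prime) (hF : Fintype.card F = p ^ 2) (hp4 : p % 4 = 3)
    {R : Subgroup (GL (Fin 4) F)} (hR : IsSymplecticTypeGroup 2 R)
    (hirr : ActsAbsolutelyIrreducibly (matrixSet R)) (hRU : R ≤ Cfsg.GU 4 F p)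
    (hZ : Nat.card (Subgroup.center R) = 4) :
    IsMaximalIn (Cfsg.GU 4 F p ⊓ specialLinear (Fin 4) F)
      (subgroupNormalizer R ⊓ (Cfsg.GU 4 F p ⊓ specialLinear (Fin 4) F)) := by
  classical
  have hodd : Odd p := hp.odd_of_ne_two (by omega)
  have h2 : (2 : F) ≠ 0 := fun e => by
    haveI : CharP F 2 := CharTwo.of_one_ne_zero_of_two_eq_zero one_ne_zero e
    have := FiniteField.even_card_of_char_two (ringChar.eq F 2)
    rw [hF, Nat.pow_mod, Nat.odd_iff.mp hodd] at this
    omega
  have h : Data R := Data.of_facts (by simp) h2 hR hirr hZ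
  set σ := Herm.frob hF with hσdef
  have hσσ : ∀ x, σ (σ x) = x := Herm.frob_frob hF
  obtain ⟨c, hc0, hc'⟩ := Herm.exists_trace_zero (Herm.frob_ne_id hF) hσσ
  have hc : σ c = -c := eq_neg_of_add_eq_zero_right hc'
  obtain ⟨du, hdu⟩ := Herm.exists_norm_eq hF (μ := -1) (neg_ne_zero.mpr one_ne_zero)
    (by rw [← Herm.frob_apply hF, map_neg, map_one])
  set d : F := (du : F) with hddef
  have hd : d * σ d = -1 := by rw [Herm.frob_apply, ← pow_succ', hdu]
  let F₀ : Subfield F := σ.eqLocusField (RingHom.id F)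
  have hfix : ∀ x ∈ F₀, σ x = x := fun x hx => hx
  have hmem : ∀ x, σ x = x → x ∈ F₀ := fun x hx => hx
  obtain ⟨δ, hδ⟩ : ∃ δ : F₀, c * c = δ :=
    ⟨⟨c * c, hmem _ (by rw [map_mul, hc]; ring)⟩, rfl⟩
  haveI : Fintype F₀ := Fintype.ofFinite F₀
  -- the small field has order `p`
  have hcard : Fintype.card F₀ = p := by
    have e : Fintype.card (F₀ × F₀) = Fintype.card F := by
      refine Fintype.card_of_bijective (f := fun x : F₀ × F₀ => (x.1 : F) + c * x.2) ⟨?_, ?_⟩
      · rintro ⟨s, t⟩ ⟨s', t'⟩ e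
        have e' := congrArg σ e
        simp only [map_add, map_mul, hc, hfix _ (SetLike.coe_mem _)] at e'
        simp only at e
        have ht : (t : F) = t' := mul_left_cancel₀ (mul_ne_zero h2 hc0) (by linear_combination e - e')
        have hs : (s : F) = s' := by linear_combination e - c * ht
        exact Prod.ext (Subtype.ext hs) (Subtype.ext ht)
      · intro z
        refine ⟨(⟨(z + σ z) / 2, hmem _ ?_⟩, ⟨(z - σ z) / (2 * c), hmem _ ?_⟩), ?_⟩
        · rw [map_div₀, map_add, hσσ, map_ofNat, add_comm]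
        · rw [map_div₀, map_sub, map_mul, hσσ, map_ofNat, hc, mul_neg, div_neg, ← neg_div, neg_sub]
        · simp only
          field_simp
          ring
    rw [Fintype.card_prod, hF, ← sq] at e
    exact Nat.pow_left_injective two_ne_zero e
  have hns : ∀ r : F₀, r * r ≠ δ := fun r e => by
    have e1 : ((r : F) - c) * ((r : F) + c) = 0 := by
      have e' : (r : F) * r = δ := congrArg Subtype.val e
      linear_combination e' - hδ
    refine mul_ne_zero h2 hc0 ?_
    rcases mul_eq_zero.mp e1 with e2 | e2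
    · have := hfix _ r.2; rw [sub_eq_zero.mp e2, hc] at this; linear_combination -this
    · have := hfix _ r.2; rw [eq_neg_of_add_eq_zero_left e2, map_neg, hc] at this
      linear_combination this
  have hneg1 : ¬IsSquare (-1 : F₀) := by
    rw [FiniteField.isSquare_neg_one_iff, hcard]; omega
  have h20 : (2 : F₀) ≠ 0 := fun e => h2 (by
    have := congrArg F₀.subtype e
    rwa [map_ofNat, map_zero] at this)
  have hab : ∀ z₁ z₂ : F₀, z₁ ^ 2 + 0 * z₁ * z₂ + -δ * z₂ ^ 2 = 0 → z₁ = 0 ∧ z₂ = 0 := by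
    intro z₁ z₂ e
    by_cases hz : z₂ = 0
    · rw [hz] at e
      exact ⟨pow_eq_zero_iff two_ne_zero |>.mp (by linear_combination e), hz⟩
    · exact absurd (show z₁ / z₂ * (z₁ / z₂) = δ by field_simp; linear_combination e) (hns _)
  obtain ⟨B, C⟩ := Orth.exists_space_minus (F := F₀) 2 0 (-δ) hab
  set Q := Cfsg.quadFormMinus 2 F₀ 0 (-δ) with hQdef
  set X := emb F₀ c d σ hfix with hX
  have hXform : ∀ w, Cfsg.quadFormPlus 3 F (X w) = (Q w : F) :=
    fun w => emb_form hfix hc hc0 h2 hd hδ w
  have hXfix : ∀ w, Fixed σ (X w) := fun w => emb_fixed hσσ hfix w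
  have hXsurj : ∀ v, Fixed σ v → ∃ w, X w = v := fun v hv => exists_emb hσσ hfix hmem hc hc0 h2 hd hv
  have hXker : LinearMap.ker X = ⊥ := by
    refine LinearMap.ker_eq_bot'.mpr fun w hw => ?_
    refine C.nondeg w fun w' => ?_
    rw [← C.polar, QuadraticMap.polar]
    refine Subtype.ext ?_
    push_cast
    rw [← hXform, ← hXform, ← hXform, map_add, hw, add_zero]
    simp [Cfsg.quadFormPlus]
  obtain ⟨co, hco'⟩ := LinearMap.exists_leftInverse_of_injective X hXker
  have hco : ∀ w, co (X w) = w := fun w => LinearMap.congr_fun hco' w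
  have hXinj : Function.Injective X := fun u v e => by rw [← hco u, e, hco]
  let toG : Cfsg.SU 4 F p →* GL (Fin 4) F :=
    Matrix.SpecialLinearGroup.toGL.comp (Cfsg.SU 4 F p).subtype
  have htoG : ∀ s, toG s ∈ Cfsg.GU 4 F p ⊓ specialLinear (Fin 4) F := fun s =>
    ⟨s.2, Units.ext s.1.2⟩
  have hdet1 : ∀ g ∈ specialLinear (Fin 4) F, (g : Matrix (Fin 4) (Fin 4) F).det = 1 := fun g hg => by
    rw [← Matrix.GeneralLinearGroup.val_det_apply, show Matrix.GeneralLinearGroup.det g = 1 from hg,
      Units.val_one]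
  have hSU : ∀ g ∈ Cfsg.GU 4 F p ⊓ specialLinear (Fin 4) F, ∃ s, toG s = g := fun g hg =>
    ⟨⟨⟨(g : Matrix (Fin 4) (Fin 4) F), hdet1 g hg.2⟩, hg.1⟩, Units.ext rfl⟩
  have hunit : ∀ g ∈ Cfsg.GU 4 F p, (g : Matrix (Fin 4) (Fin 4) F)ᵀ *
      (g : Matrix (Fin 4) (Fin 4) F).map σ = 1 := fun g hg => by
    refine Matrix.ext fun i j => ?_
    have e : Cfsg.hermForm 4 F p ((g : Matrix (Fin 4) (Fin 4) F) *ᵥ Pi.single i 1)
        ((g : Matrix (Fin 4) (Fin 4) F) *ᵥ Pi.single j 1) =
        Cfsg.hermForm 4 F p (Pi.single i 1) (Pi.single j 1) := hg _ _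
    simp only [Cfsg.hermForm, Matrix.mulVec_single_one, Matrix.col_apply, ← Herm.frob_apply hF] at e
    rw [Matrix.mul_apply]
    simp only [Matrix.transpose_apply, Matrix.map_apply]
    rw [e, Finset.sum_eq_single i (fun k _ hk => by rw [Pi.single_eq_of_ne hk, zero_mul])
      (fun h' => absurd (Finset.mem_univ i) h'), Pi.single_eq_same, one_mul]
    by_cases hij : i = j
    · rw [hij, Pi.single_eq_same, map_one, Matrix.one_apply_eq]
    · rw [Pi.single_eq_of_ne hij, map_zero, Matrix.one_apply_ne hij]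
  have hpres : ∀ g ∈ Cfsg.GU 4 F p, (g : Matrix (Fin 4) (Fin 4) F).det = 1 →
      ∀ v, Fixed σ v → Fixed σ (wed (g : Matrix (Fin 4) (Fin 4) F) v) := fun g hg hdg v hv => by
    refine fixed_wed σ hdg ?_ hv
    refine mul_eq_one_comm.mp ?_
    exact hunit g hg
  have hclosed : ∀ (g : Cfsg.SU 4 F p) (w : I6 → F₀),
      X (co (wed (g.1.1) (X w))) = wed g.1.1 (X w) := fun g w => by
    obtain ⟨w', e⟩ := hXsurj _ (hpres _ (htoG g).1 (hdet1 _ (htoG g).2) _ (hXfix w))
    show X (co (wed (toG g : Matrix (Fin 4) (Fin 4) F) (X w))) = _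
    rw [← e, hco]
    exact e
  obtain ⟨φ, hφ⟩ := SmallIso.exists_hom (G := Cfsg.SU 4 F p) X co hco
    (fun g => (wed (g.1.1)).restrictScalars F₀)
    (fun M => by simp [wed_one])
    (fun g g' M => by simp [wed_mul])
    hclosed
  have hφw : ∀ g w, X ((φ g).val *ᵥ w) = wed (toG g : Matrix (Fin 4) (Fin 4) F) (X w) := hφ
  have hiso : ∀ g, φ g ∈ Cfsg.isometryGroup F₀ Q := fun g v _ => by
    show Q ((φ g).val *ᵥ v) = Q v
    refine Subtype.ext ?_
    rw [← hXform, ← hXform, hφw, Q_wed, hdet1 _ (htoG g).2, one_mul]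
  -- fixed vectors span
  have hparts : ∀ v : V6, ∃ f g : V6, Fixed σ f ∧ Fixed σ g ∧ v = f + c • g := fun v => by
    refine ⟨fun k => (v k + σ (v k.swap)) / 2, fun k => (v k - σ (v k.swap)) / (2 * c),
      fun k => ?_, fun k => ?_, ?_⟩
    · simp only [Sum.swap_swap]
      rw [map_div₀, map_add, hσσ, map_ofNat, add_comm]
    · simp only [Sum.swap_swap]
      rw [map_div₀, map_sub, hσσ, map_mul, map_ofNat, hc, mul_neg, div_neg,
        ← neg_div, neg_sub]
    · funext k
      simp only [Pi.add_apply, Pi.smul_apply, smul_eq_mul]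
      field_simp
      ring
  have hker : ∀ g, φ g = 1 → ∃ e : F, e * e = 1 ∧ g.1.1 = e • 1 := fun g hg => by
    obtain ⟨ψ, -, hψ, hψker⟩ := Cfsg.Agent.S0302.exists_wedge F
    refine hψker g.1 (Units.ext (Matrix.toLin'.injective (LinearMap.ext fun v => ?_)))
    rw [Matrix.toLin'_apply, Units.val_one, Matrix.toLin'_one, LinearMap.id_apply, ← co_X (_ *ᵥ v),
      hψ, ← wed_eq]
    have hfx : ∀ f, Fixed σ f → wed g.1.1 f = f := fun f hf => by
      obtain ⟨w, rfl⟩ := hXsurj f hf
      have := hφw g w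
      rw [hg, Units.val_one, Matrix.one_mulVec] at this
      exact this.symm
    obtain ⟨f, f', hf, hf', rfl⟩ := hparts v
    rw [map_add, map_smul, hfx f hf, hfx f' hf']
  have hrange : φ.range = omegaGL Q := by
    have h6 : 2 ≤ Fintype.card I6 := by simp
    obtain ⟨hsq, -, hi4⟩ := SmallIso.omega_facts C h6 (Or.inl h20)
    set χ : Cfsg.SU 4 F p →* ↥(Cfsg.isometryGroup F₀ Q) := φ.codRestrict _ hiso
    have hle : χ.range ≤ Cfsg.Omega F₀ Q := by
      rintro _ ⟨g, rfl⟩
      have : SmallIso.squares (Cfsg.SU 4 F p) ≤ (Cfsg.Omega F₀ Q).comap χ :=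
        (Subgroup.closure_le _).mpr fun x ⟨y, hy⟩ => by
          show χ x ∈ Cfsg.Omega F₀ Q
          rw [hy, map_mul]
          exact hsq _
      exact this (by rw [Cfsg.Lib.MinusSix.squares_su hF]; trivial)
    have hk : Nat.card φ.ker ≤ 2 := (SmallIso.card_le_roots φ.ker (fun z => z.1.1 0 0)
      (fun x hx y hy e => by
        obtain ⟨e₁, -, h1⟩ := hker x hx
        obtain ⟨e₂, -, h1'⟩ := hker y hy
        refine Subtype.ext (Subtype.ext ?_)
        rw [h1, h1'] at e
        rw [h1, h1']
        simp at e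
        rw [e]) (fun x hx => by
        obtain ⟨e₁, he, h1⟩ := hker x hx
        rw [h1]
        simpa using he)).1
    have hkeq : χ.ker = φ.ker := by
      ext g
      simp [χ, MonoidHom.mem_ker, Subtype.ext_iff]
    have hO := (Orth.counts_minus (F := F₀) (a := 0) (b := -δ) 2 hab).2.2
    rw [Nat.card_eq_fintype_card (α := F₀), hcard] at hO
    have hcardO : (Nat.card ↥(Cfsg.isometryGroup F₀ Q) : ℤ) = 2 * Nat.card (Cfsg.SU 4 F p) := by
      rw [hQdef, hO, Cfsg.Lib.MinusSix.card_SU_four hF]
      simp [Finset.prod_range_succ]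
      ring
    have hcard' : Nat.card ↥(Cfsg.isometryGroup F₀ Q) = 2 * Nat.card (Cfsg.SU 4 F p) := by
      exact_mod_cast hcardO
    have heq : χ.range = Cfsg.Omega F₀ Q := by
      refine Subgroup.eq_of_le_of_card_ge hle ?_
      have e1 := Subgroup.card_eq_card_quotient_mul_card_subgroup χ.ker
      rw [Nat.card_congr (QuotientGroup.quotientKerEquivRange χ).toEquiv, hkeq] at e1
      have e2 := Subgroup.card_mul_index (Cfsg.Omega F₀ Q)
      rw [hi4 h20, hcard'] at e2
      nlinarith [hk, Nat.card_pos (α := χ.range)]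
    rw [omegaGL, ← heq, MonoidHom.map_range]
    rfl
  have hRG : R ≤ Cfsg.GU 4 F p ⊓ specialLinear (Fin 4) F := fun x hx =>
    ⟨hRU hx, Units.ext (by rw [Matrix.GeneralLinearGroup.val_det_apply]; exact det_one h hx)⟩
  -- a frame of fixed eigenvectors
  have hspanE : Submodule.span F {v : V6 | IsEig R v ∧ Fixed σ v} = ⊤ := by
    refine eq_top_iff.2 ((span_eig h).ge.trans (Submodule.span_le.2 fun v hv => ?_))
    obtain ⟨f, g, hf, hg, rfl⟩ := hparts v
    have huniq : ∀ f g f' g' : V6, Fixed σ f → Fixed σ g → Fixed σ f' → Fixed σ g' →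
        f + c • g = f' + c • g' → f = f' ∧ g = g' := by
      intro f g f' g' hf hg hf' hg' e
      have hk : ∀ k, f k = f' k ∧ g k = g' k := fun k => by
        have e1 := congrFun e k
        have e2 := congrArg σ (congrFun e k.swap)
        simp only [Pi.add_apply, Pi.smul_apply, smul_eq_mul, map_add, map_mul, hc, hf k, hg k, hf' k,
          hg' k, hσσ] at e1 e2
        have hg1 : g k = g' k := mul_left_cancel₀ (mul_ne_zero h2 hc0) (by linear_combination e1 - e2)
        exact ⟨by linear_combination e1 - c * hg1, hg1⟩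
      exact ⟨funext fun k => (hk k).1, funext fun k => (hk k).2⟩
    have heig : IsEig R f ∧ IsEig R g := by
      have key : ∀ x ∈ R, (wed (x : Matrix (Fin 4) (Fin 4) F) f = f ∧
          wed (x : Matrix (Fin 4) (Fin 4) F) g = g) ∨ (wed (x : Matrix (Fin 4) (Fin 4) F) f = -f ∧
          wed (x : Matrix (Fin 4) (Fin 4) F) g = -g) := by
        intro x hx
        have hf' := hpres x (hRU hx) (det_one h hx) f hf
        have hg' := hpres x (hRU hx) (det_one h hx) g hg
        rcases hv x hx with e | e <;> rw [map_add, map_smul] at e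
        · exact Or.inl (huniq _ _ _ _ hf' hg' hf hg e)
        · rw [neg_add, ← smul_neg] at e
          exact Or.inr (huniq _ _ _ _ hf' hg' (fun k => by simp [hf k]) (fun k => by simp [hg k]) e)
      exact ⟨fun x hx => (key x hx).imp And.left And.left,
        fun x hx => (key x hx).imp And.right And.right⟩
    exact Submodule.add_mem _ (Submodule.subset_span ⟨heig.1, hf⟩)
      (Submodule.smul_mem _ _ (Submodule.subset_span ⟨heig.2, hg⟩))
  obtain ⟨S, hS, hSspan, hSli⟩ := exists_linearIndependent F {v : V6 | IsEig R v ∧ Fixed σ v}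
  rw [hspanE] at hSspan
  let b₀ : Basis S F V6 := Basis.mk hSli (by rw [Subtype.range_coe, hSspan])
  haveI : Fintype S := FiniteDimensional.fintypeBasisIndex b₀
  have hcardS : Fintype.card S = 6 := by
    rw [← finrank_eq_card_basis b₀, finrank_fintype_fun_eq_card]; rfl
  set b : Basis (Fin 6) F V6 := b₀.reindex (Fintype.equivFinOfCardEq hcardS) with hbdef
  have hbS : ∀ i, IsEig R (b i) ∧ Fixed σ (b i) := fun i => by
    rw [hbdef, Basis.reindex_apply, Basis.mk_apply]
    exact hS (Subtype.coe_prop _)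
  have hb : ∀ i, IsEig R (b i) := fun i => (hbS i).1
  choose s hs using fun i => hXsurj _ (hbS i).2
  have hsli : LinearIndependent F₀ s := by
    rw [Fintype.linearIndependent_iff]
    intro t ht i
    have e := congrArg X ht
    simp only [map_sum, map_smul, hs, map_zero, Subfield.smul_def] at e
    exact Subtype.ext (Fintype.linearIndependent_iff.1 b.linearIndependent (fun i => (t i : F)) e i)
  have hstop : Submodule.span F₀ (Set.range s) = ⊤ :=
    hsli.span_eq_top_of_card_eq_finrank' (by rw [finrank_fintype_fun_eq_card]; rfl)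
  set D : Fin 6 → Submodule F₀ (I6 → F₀) := fun i => F₀ ∙ s i with hD
  obtain ⟨BP, CP⟩ := Orth.exists_space_plus (F := F) 3
  have hF6 := lines_frame h b hb CP
  have hbne : ∀ i, s i ≠ 0 := fun i e => b.ne_zero i (by rw [← hs i, e, map_zero])
  have hQne : ∀ i, Q (s i) ≠ 0 := fun i e => eig_Q_ne h (hb i) (b.ne_zero i) (by
    rw [← hs i, hXform, e, ZeroMemClass.coe_zero])
  have hfr : IsOrthogonalMDecomposition Q 1 D := by
    refine ⟨⟨⟨by norm_num, one_pos, fun i => finrank_span_singleton (hbne i),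
      hsli.iSupIndep_span_singleton, ?_⟩, fun i => ?_, fun i j hij => ?_⟩, fun i j => ?_⟩
    · rw [← Submodule.span_range_eq_iSup]; exact hstop
    · intro w hw hw0
      obtain ⟨e, rfl⟩ := Submodule.mem_span_singleton.1 hw
      have hne : B (e • s i) (e • s i) ≠ 0 := by
        rw [← C.polar, QuadraticMap.polar, ← two_smul F₀ (e • s i), C.smul, C.smul]
        have he : e ≠ 0 := fun e' => hw0 (by rw [e', zero_smul])
        intro e'
        exact mul_ne_zero (mul_ne_zero h20 (pow_ne_zero 2 he)) (hQne i) (by linear_combination e')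
      rw [← C.polar] at hne
      exact ⟨⟨_, hw, hne⟩, ⟨_, hw, hne⟩⟩
    · intro u hu v hv
      have horth := hF6.decomp.orthogonal i j hij (b i) (Submodule.mem_span_singleton_self _)
        (b j) (Submodule.mem_span_singleton_self _)
      obtain ⟨e, rfl⟩ := Submodule.mem_span_singleton.1 hu
      obtain ⟨e', rfl⟩ := Submodule.mem_span_singleton.1 hv
      have h0 : B (s i) (s j) = 0 := by
        rw [← C.polar, QuadraticMap.polar]
        refine Subtype.ext ?_
        push_cast
        rw [← hXform, ← hXform, ← hXform, map_add, hs, hs]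
        exact horth
      simp [C.polar, map_smul, h0]
    · obtain ⟨e, he, hQe⟩ : ∃ e : F₀, e ≠ 0 ∧ Q (s i) = e ^ 2 * Q (s j) := by
        have hdj := eig_det_ne h (hb j) (b.ne_zero j)
        obtain ⟨l, r, hr, hM⟩ := h.eq_smul_of_sign (M := wedgeX (b i) * (wedgeX (b j))⁻¹)
          (fun e => by
            have h1 := congrArg (fun Z => Z * wedgeX (b j)) e
            simp only [Matrix.mul_assoc, Matrix.nonsing_inv_mul _ (isUnit_iff_ne_zero.2 hdj),
              Matrix.mul_one, Matrix.zero_mul] at h1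
            exact b.ne_zero i (by rw [← co_X (b i), h1, map_zero]))
          (fun x hx => (quot_sign h (hb i) (hb j) (b.ne_zero j) hx).2)
        have hM' : wedgeX (b i) = (l • (r : Matrix (Fin 4) (Fin 4) F)) * wedgeX (b j) := by
          rw [← hM, Matrix.mul_assoc, Matrix.nonsing_inv_mul _ (isUnit_iff_ne_zero.2 hdj),
            Matrix.mul_one]
        have e1 := norm_ratio σ (hbS i).2 (hbS j).2 (hunit r (hRU hr)) hM'
        have e2 : Cfsg.quadFormPlus 3 F (b i) ^ 2 = l ^ 4 * Cfsg.quadFormPlus 3 F (b j) ^ 2 := by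
          rw [← det_X, ← det_X, hM', Matrix.det_mul, Matrix.det_smul, det_one h hr, Fintype.card_fin,
            mul_one]
        have hl : l ≠ 0 := fun e => eig_Q_ne h (hb i) (b.ne_zero i) (by rw [e1, e, zero_mul, zero_mul])
        rw [← hs i, ← hs j, hXform, hXform] at e1 e2
        have hQj : (Q (s j) : F) ≠ 0 := fun e => hQne j (Subtype.ext e)
        have e3 : (σ l - l) * (σ l + l) = 0 := by
          refine mul_right_cancel₀ (mul_ne_zero (pow_ne_zero 2 hl) (pow_ne_zero 2 hQj)) ?_
          rw [e1] at e2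
          linear_combination e2
        rcases mul_eq_zero.1 e3 with e3 | e3
        · have hlm : l ∈ F₀ := hmem _ (sub_eq_zero.1 e3)
          refine ⟨⟨l, hlm⟩, fun e => hl (congrArg Subtype.val e), Subtype.ext ?_⟩
          push_cast
          rw [e1, sub_eq_zero.1 e3]
          ring
        · have htm : l / c ∈ F₀ := hmem _ (by
            rw [map_div₀, hc, eq_neg_of_add_eq_zero_left e3, neg_div_neg_eq])
          have hlc : l = c * (l / c) := by field_simp
          have hnsq : ¬IsSquare δ := fun ⟨r, hr⟩ => hns r hr.symm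
          have hsq : IsSquare (-δ) := by
            obtain ⟨r, hr⟩ := SUFour.Orth.isSquare_mul_of_not h20 hneg1 hnsq
            exact ⟨r, by linear_combination hr⟩
          obtain ⟨k, hk⟩ := hsq
          refine ⟨k * ⟨l / c, htm⟩, mul_ne_zero (fun e => hnsq ?_) (fun e => hl ?_), Subtype.ext ?_⟩
          · rw [e, mul_zero, neg_eq_zero] at hk; rw [hk]; exact IsSquare.zero
          · rw [hlc, show l / c = 0 from congrArg Subtype.val e, mul_zero]
          · have hk' : -(δ : F) = (k : F) * k := congrArg Subtype.val hk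
            push_cast
            rw [e1, show σ l = -l from eq_neg_of_add_eq_zero_left e3]
            field_simp
            linear_combination hk' - hδ
      refine ⟨((LinearEquiv.toSpanNonzeroSingleton F₀ (I6 → F₀) (s i) (hbne i)).symm.trans
        (LinearEquiv.toSpanNonzeroSingleton F₀ (I6 → F₀) (e • s j) (smul_ne_zero he (hbne j)))).trans
        (LinearEquiv.ofEq _ _ (Submodule.span_singleton_smul_eq (Ne.isUnit he) _)), fun w => ?_⟩
      obtain ⟨a, ha⟩ := (LinearEquiv.toSpanNonzeroSingleton F₀ (I6 → F₀) (s i) (hbne i)).surjective w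
      subst ha
      rw [LinearEquiv.trans_apply, LinearEquiv.trans_apply, LinearEquiv.symm_apply_apply]
      show Q (a • e • s j) = Q (a • s i)
      rw [C.smul, C.smul, C.smul, hQe]
  have hmax := FrameSmall.lines_maximal C (hcard ▸ hodd) (hcard ▸ hp) h20 (Or.inr (by simp)) hfr
  have hkerR : ∀ g, φ g = 1 → toG g ∈ R := fun g hg => by
    obtain ⟨e, he, hge⟩ := hker g hg
    obtain ⟨z, hz, hze⟩ := h.roots e (by linear_combination (e * e + 1) * he)
    rwa [show toG g = z from Units.ext (hge.trans hze.symm)]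
  have hker2 : ∀ g : GL (Fin 4) F, (g : Matrix (Fin 4) (Fin 4) F).det = 1 →
      (∀ v, wed (g : Matrix (Fin 4) (Fin 4) F) v = v) → g = 1 ∨ g = -1 := fun g hg hv => by
    obtain ⟨ψ, -, hψ, hψker⟩ := Cfsg.Agent.S0302.exists_wedge F
    obtain ⟨e, he, hge⟩ := hψker ⟨(g : Matrix (Fin 4) (Fin 4) F), hg⟩
      (Units.ext (Matrix.toLin'.injective (LinearMap.ext fun v => by
        rw [Matrix.toLin'_apply, Units.val_one, Matrix.toLin'_one, LinearMap.id_apply]
        exact (co_X _).symm.trans
          ((congrArg wedgeCo (hψ _ v)).trans ((wed_eq _ v).symm.trans (hv v))))))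
    rcases mul_self_eq_one_iff.1 he with rfl | rfl
    · exact Or.inl (Units.ext (by rw [Units.val_one]; exact hge.trans (one_smul _ _)))
    · exact Or.inr (Units.ext (by rw [Units.val_neg, Units.val_one]; exact hge.trans (neg_one_smul _ _)))
  -- the normaliser is the stabiliser of the frame
  have hiff : ∀ g, toG g ∈ subgroupNormalizer R ↔ φ g ∈ decompositionStabilizer D := by
    intro g
    set M : Matrix (Fin 4) (Fin 4) F := (toG g : Matrix (Fin 4) (Fin 4) F) with hMdef
    have hdetg : M.det = 1 := hdet1 _ (htoG g).2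
    have hmap : ∀ i, (D i).map (Matrix.toLin' (φ g).val) = F₀ ∙ ((φ g).val *ᵥ s i) := fun i => by
      rw [hD, Submodule.map_span, Set.image_singleton, Matrix.toLin'_apply]
    have hXs : ∀ i, X ((φ g).val *ᵥ s i) = wed M (b i) := fun i => by rw [hφw, hs]
    have hback : ∀ v, wed (((toG g)⁻¹ : GL (Fin 4) F) : Matrix (Fin 4) (Fin 4) F) (wed M v) = v :=
      fun v => by rw [← wed_mul, hMdef, Units.inv_mul, wed_one]
    have hinj : Function.Injective (wed M) := fun u v e => by rw [← hback u, e, hback]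
    constructor
    · intro hN
      have he : ∀ i, IsEig R (wed M (b i)) := by
        intro i x hx
        have hx' : (toG g)⁻¹ * x * toG g ∈ R := by
          rw [subgroupNormalizer] at hN
          exact (Subgroup.mem_normalizer_iff''.1 hN x).1 hx
        have e : wed (x : Matrix (Fin 4) (Fin 4) F) (wed M (b i)) =
            wed M (wed (((toG g)⁻¹ * x * toG g : GL (Fin 4) F) : Matrix (Fin 4) (Fin 4) F) (b i)) := by
          rw [hMdef, ← wed_mul, ← wed_mul, ← Units.val_mul, ← Units.val_mul]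
          congr 2
          group
        rcases hb i _ hx' with e' | e' <;> rw [e, e']
        · exact Or.inl rfl
        · exact Or.inr (map_neg _ _)
      have hl : ∀ i, ∃ j, ∃ e : F, wed M (b i) = e • b j := fun i =>
        eig_in_line h b hb (he i) fun e => b.ne_zero i (hinj (e.trans (map_zero _).symm))
      choose π e hπ using hl
      have he0 : ∀ i, e i ≠ 0 := fun i e' => b.ne_zero i (hinj (by rw [hπ i, e', zero_smul, map_zero]))
      have hπi : Function.Injective π := fun i j e' => by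
        have e1 : wed M (e j • b i) = wed M (e i • b j) := by
          rw [map_smul, map_smul, hπ i, hπ j, e', smul_comm]
        exact b.linearIndependent.eq_of_smul_apply_eq_smul_apply _ _ (i := i) (j := j) (he0 j) (hinj e1)
      refine ⟨Equiv.ofBijective π (Finite.injective_iff_bijective.1 hπi), fun i => ?_⟩
      obtain ⟨t, ht⟩ : ∃ t : F₀, (φ g).val *ᵥ s i = t • s (π i) := by
        have hmem' : (φ g).val *ᵥ s i ∈ Submodule.span F₀ (Set.range s) := hstop ▸ Submodule.mem_top
        obtain ⟨t, ht⟩ := (Submodule.mem_span_range_iff_exists_fun F₀).1 hmem'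
        refine ⟨t (π i), ?_⟩
        have e1 : ∑ j, (t j : F) • b j = e i • b (π i) := by
          rw [← hπ i, ← hXs, ← ht]
          simp [map_sum, Subfield.smul_def, hs]
        rw [← ht]
        refine Finset.sum_eq_single (π i) (fun j _ hj => ?_) (by simp)
        have e2 := congrArg (fun v => b.repr v j) e1
        simp [Finsupp.single_apply, hj.symm] at e2
        rw [e2, zero_smul]
      have ht0 : t ≠ 0 := fun e' => by
        rw [e', zero_smul] at ht
        exact b.ne_zero i (hinj (by rw [← hXs, ht, map_zero, map_zero]))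
      rw [hmap, ht, Submodule.span_singleton_smul_eq (Ne.isUnit ht0)]
      rfl
    · rintro ⟨π, hπ⟩
      have hl : ∀ i, ∃ e : F, wed M (b i) = e • b (π i) := fun i => by
        have hm : (φ g).val *ᵥ s i ∈ D (π i) := by
          rw [← hπ i, hmap]; exact Submodule.mem_span_singleton_self _
        obtain ⟨e, he⟩ := Submodule.mem_span_singleton.1 hm
        exact ⟨e, by rw [← hXs, ← he, map_smul, hs]; rfl⟩
      choose e he using hl
      have key : ∀ x ∈ R, toG g * x * (toG g)⁻¹ ∈ R := by
        intro x hx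
        refine mem_of_signs h b hb (hdet1 _ (mul_mem (mul_mem (htoG g).2 (hRG hx).2)
          (inv_mem (htoG g).2))) (fun j => ?_) hker2
        obtain ⟨i, rfl⟩ := π.surjective j
        have he0 : e i ≠ 0 := fun e' => b.ne_zero i (hinj (by rw [he i, e', zero_smul, map_zero]))
        refine ⟨if wed (x : Matrix (Fin 4) (Fin 4) F) (b i) = b i then 1 else -1, ?_⟩
        have hb' : wed (((toG g)⁻¹ : GL (Fin 4) F) : Matrix (Fin 4) (Fin 4) F) (b (π i)) =
            (e i)⁻¹ • b i := by
          have h1 := hback (b i)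
          rw [he i, map_smul] at h1
          rw [← h1, smul_smul, inv_mul_cancel₀ he0, one_smul]
        rw [Units.val_mul, Units.val_mul, wed_mul, wed_mul, hb', map_smul, map_smul]
        split_ifs with e'
        · rw [e', show wed (toG g : Matrix (Fin 4) (Fin 4) F) (b i) = e i • b (π i) from he i,
            smul_smul, inv_mul_cancel₀ he0]
        · rw [(hb i x hx).resolve_left e', map_neg,
            show wed (toG g : Matrix (Fin 4) (Fin 4) F) (b i) = e i • b (π i) from he i,
            smul_neg, smul_smul, inv_mul_cancel₀ he0, neg_one_smul, one_smul]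
      rw [subgroupNormalizer, Subgroup.mem_normalizer_iff]
      have hfin : (R.map (MulAut.conj (toG g)).toMonoidHom) = R := by
        refine Subgroup.eq_of_le_of_card_ge ?_ ?_
        · rintro _ ⟨x, hx, rfl⟩; exact key x hx
        · rw [Subgroup.card_map_of_injective (MulAut.conj (toG g)).injective]
      intro x
      refine ⟨key x, fun hx => ?_⟩
      rw [← hfin] at hx
      obtain ⟨z, hz, hze⟩ := hx
      rwa [← (MulAut.conj (toG g)).injective (hze : MulAut.conj (toG g) z = MulAut.conj (toG g) x)]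
  -- transfer
  refine ⟨lt_of_le_of_ne inf_le_right fun e => hmax.1.ne (le_antisymm inf_le_right ?_),
    fun L hNL hLS => ?_⟩
  · intro y hy
    rw [← hrange] at hy
    obtain ⟨g, rfl⟩ := hy
    refine ⟨(hiff g).1 (e.ge (htoG g)).1, ?_⟩
    rw [← hrange]; exact ⟨g, rfl⟩
  set L' := (L.comap toG).map φ
  have h1 : decompositionStabilizer D ⊓ omegaGL Q ≤ L' := by
    rintro y ⟨hyD, hyO⟩
    rw [← hrange] at hyO
    obtain ⟨g, rfl⟩ := hyO
    exact ⟨g, hNL ⟨(hiff g).2 hyD, htoG g⟩, rfl⟩
  have h2' : L' ≤ omegaGL Q := hrange ▸ Subgroup.map_le_range _ _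
  rcases hmax.2 L' h1 h2' with e | e
  · refine Or.inl (le_antisymm (fun x hx => ⟨?_, hLS hx⟩) hNL)
    obtain ⟨g, rfl⟩ := hSU x (hLS hx)
    exact (hiff g).2 (e.le ⟨g, hx, rfl⟩).1
  · refine Or.inr (le_antisymm hLS fun x hx => ?_)
    obtain ⟨g, rfl⟩ := hSU x hx
    obtain ⟨t, ht, hts⟩ := e.ge (show φ g ∈ omegaGL Q by rw [← hrange]; exact ⟨g, rfl⟩)
    have hts' : φ (g * t⁻¹) = 1 := by rw [map_mul, map_inv, ← hts, mul_inv_cancel]
    have hmem' : toG (g * t⁻¹) ∈ L :=
      hNL ⟨Subgroup.le_normalizer (hkerR _ hts'), htoG _⟩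
    rw [show toG g = toG (g * t⁻¹) * toG t by rw [← map_mul, inv_mul_cancel_right]]
    exact L.mul_mem hmem' ht

end Cfsg.Lib.Linear.Klein.Uni
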